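import Groth.Agent.Lib.EtShriek.Functor
import Groth.Agent.Lib.EtSite.PropSplit
import Groth.Agent.Lib.EtSite.PushUI
import Groth.Agent.S0384
import Groth.Agent.Lib.EtBasicB.SheafCriterion
import Mathlib.CategoryTheory.Limits.Types.Filtered

/-!
# Direct image with proper support and filtered colimits
-/

set_option autoImplicit false
set_option backward.isDefEq.respectTransparency false
universe w' w u

open CategoryTheory CategoryTheory.Limits AlgebraicGeometry Opposite
open EtShriek GrothLib.EtSite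

noncomputable section

namespace GrothLib.EtShriek

variable {X Y : Scheme.{u}} {J : Type w} [Category.{w'} J]

/-- A cocone which is a filtered colimit on every stalk, in concrete terms. -/
def StalkColim (D : J ⥤ EtCoh.Ab X) (c : Cocone D) : Prop :=
  ∀ (Ω : Type u) [Field Ω] [IsSepClosed Ω] (ξ : Spec (CommRingCat.of Ω) ⟶ X),
    (∀ x : (EtCoh.stalk ξ).obj c.pt, ∃ (k : J) (y : (EtCoh.stalk ξ).obj (D.obj k)),
      (EtCoh.stalk ξ).map (c.ι.app k) y = x) ∧
    ∀ (k : J) (y : (EtCoh.stalk ξ).obj (D.obj k)), (EtCoh.stalk ξ).map (c.ι.app k) y = 0 →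
      ∃ (l : J) (φ : k ⟶ l), (EtCoh.stalk ξ).map (D.map φ) y = 0

theorem map_map_apply (D : J ⥤ EtCoh.Ab X) {k l m : J} (φ : k ⟶ l) (ψ : l ⟶ m) (W : X.Etale)
    (a : EtCoh.sect (D.obj k) W) :
    (D.map ψ).hom.app (op W) ((D.map φ).hom.app (op W) a) = (D.map (φ ≫ ψ)).hom.app (op W) a := by
  rw [Functor.map_comp]
  rfl

theorem ι_map_apply (D : J ⥤ EtCoh.Ab X) (c : Cocone D) {k l : J} (φ : k ⟶ l) (W : X.Etale)
    (a : EtCoh.sect (D.obj k) W) :
    (c.ι.app l).hom.app (op W) ((D.map φ).hom.app (op W) a) = (c.ι.app k).hom.app (op W) a := by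
  rw [← c.w φ]
  rfl

theorem ι_naturality (D : J ⥤ EtCoh.Ab X) (c : Cocone D) (k : J) {V W : X.Etale} (g : V ⟶ W)
    (a : EtCoh.sect (D.obj k) W) :
    (c.ι.app k).hom.app (op V) ((D.obj k).obj.map g.op a) =
      c.pt.obj.map g.op ((c.ι.app k).hom.app (op W) a) :=
  NatTrans.naturality_apply (c.ι.app k).hom g.op a

theorem exists_common [IsFiltered J] {k : J} {α : Type*} (T : Finset α) (l : α → J)
    (φ : ∀ x, k ⟶ l x) :
    ∃ (m : J) (ψ : k ⟶ m), ∀ x ∈ T, ∃ χ : l x ⟶ m, φ x ≫ χ = ψ := by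
  classical
  induction T using Finset.induction with
  | empty => exact ⟨k, 𝟙 k, fun x hx => absurd hx (Finset.notMem_empty x)⟩
  | @insert a T _ ih =>
    obtain ⟨m, ψ, h⟩ := ih
    obtain ⟨m', p, q, hpq⟩ := IsFiltered.span (φ a) ψ
    refine ⟨m', φ a ≫ p, fun x hx => ?_⟩
    rcases Finset.mem_insert.1 hx with rfl | hx
    · exact ⟨p, rfl⟩
    · obtain ⟨χ, hχ⟩ := h x hx
      exact ⟨χ ≫ q, by rw [reassoc_of% hχ, hpq]⟩

theorem isCompact_range_left {W V : X.Etale} (g : V ⟶ W) [CompactSpace V.left] :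
    IsCompact (Set.range g.left.base) := isCompact_range g.left.continuous

/-- A section on a quasi-compact object killed in the colimit is killed at a stage. -/
theorem exists_kill [IsFiltered J] {D : J ⥤ EtCoh.Ab X} {c : Cocone D} (hc : StalkColim D c)
    (W : X.Etale) [CompactSpace W.left] (k : J) (a : EtCoh.sect (D.obj k) W)
    (ha : (c.ι.app k).hom.app (op W) a = 0) :
    ∃ (l : J) (φ : k ⟶ l), (D.map φ).hom.app (op W) a = 0 := by
  have h : ∀ x : W.left, ∃ (l : J) (φ : k ⟶ l) (V : X.Etale) (g : V ⟶ W),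
      (∃ v : V.left, g.left.base v = x) ∧ (D.obj l).obj.map g.op ((D.map φ).hom.app (op W) a) = 0 := by
    intro x
    obtain ⟨t, ht⟩ := exists_fib (gpt (W.hom.base x)) (U := W) x (gpt_default _).symm
    obtain ⟨l, φ, hl⟩ := (hc _ (gpt (W.hom.base x))).2 k (germ _ (D.obj k) t a) (by
      rw [stalk_map_germ]
      exact (congrArg (germ _ c.pt t) ha).trans (map_zero _))
    obtain ⟨V, g, v, hv, hg⟩ := eq_zero_nhd _ (D.obj l) t _ ((stalk_map_germ _ _ t a).symm.trans hl)
    exact ⟨l, φ, V, g, ⟨v, hv.trans ht⟩, hg⟩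
  choose l φ V g hv hg using h
  obtain ⟨T, hT⟩ := isCompact_univ.elim_finite_subcover (fun x : W.left => Set.range (g x).left.base)
    (fun x => GrothLib.EtBasicB.isOpen_range_left (g x)) (fun x _ => Set.mem_iUnion.2 ⟨x, hv x⟩)
  obtain ⟨m, ψ, hm⟩ := exists_common T l φ
  refine ⟨m, ψ, section_eq_zero_of_germs _ W _ fun Ω _ _ ξ t => ?_⟩
  obtain ⟨x, hx, v', hv'⟩ := Set.mem_iUnion₂.1
    (hT (Set.mem_univ (t.left.base (default : Spec (CommRingCat.of Ω)))))
  obtain ⟨χ, hχ⟩ := hm x hx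
  obtain ⟨t', ht', -⟩ := GrothLib.EtBasicB.exists_fib_lift ξ (g x) t v' hv'
  rw [← ht', ← germ_map, ← hχ, ← map_map_apply]
  refine (congrArg (germ ξ (D.obj m) t') ((NatTrans.naturality_apply (D.map χ).hom (g x).op _).symm.trans
    ((congrArg ((D.map χ).hom.app (op (V x))) (hg x)).trans (map_zero _)))).trans (map_zero _)

/-- Compatible sections on a covering family glue. -/
theorem exists_glue (F : EtCoh.Ab X) (W : X.Etale) {α : Type*} (T : α → X.Etale) (g : ∀ i, T i ⟶ W)
    (hcov : ∀ x : W.left, ∃ i, x ∈ Set.range (g i).left.base) (a : ∀ i, EtCoh.sect F (T i))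
    (hcompat : ∀ (i j : α) (Z : X.Etale) (p : Z ⟶ T i) (q : Z ⟶ T j), p ≫ g i = q ≫ g j →
      F.obj.map p.op (a i) = F.obj.map q.op (a j)) :
    ∃ z : EtCoh.sect F W, ∀ i, F.obj.map (g i).op z = a i := by
  have hP : Presieve.IsSheaf X.smallEtaleTopology (F.obj ⋙ forget AddCommGrpCat.{u + 1}) :=
    (isSheaf_iff_isSheaf_of_type _ _).1
      ((sheafCompose X.smallEtaleTopology (forget AddCommGrpCat.{u + 1})).obj F).property
  have hR : Sieve.generate (Presieve.ofArrows T g) ∈ X.smallEtaleTopology W := by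
    refine (mem_topology_iff _).2 fun x => ?_
    obtain ⟨i, v, hv⟩ := hcov x
    exact ⟨T i, g i, v, Sieve.le_generate _ _ _ (Presieve.ofArrows.mk i), hv⟩
  obtain ⟨z, hz, -⟩ := (Presieve.isSheafFor_arrows_iff _ _).1
    ((Presieve.isSheafFor_iff_generate _).2 (hP _ hR)) a hcompat
  exact ⟨z, hz⟩

/-- A section on a quasi-compact quasi-separated object comes from a stage. -/
theorem exists_stage [IsFiltered J] {D : J ⥤ EtCoh.Ab X} {c : Cocone D} (hc : StalkColim D c)
    (W : X.Etale) [CompactSpace W.left] [QuasiSeparatedSpace W.left] (s : EtCoh.sect c.pt W) :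
    ∃ (k : J) (a : EtCoh.sect (D.obj k) W), (c.ι.app k).hom.app (op W) a = s := by
  classical
  have h : ∀ x : W.left, ∃ (V : X.Etale) (g : V ⟶ W), IsAffine V.left ∧
      (∃ v : V.left, g.left.base v = x) ∧ ∃ (k : J) (a : EtCoh.sect (D.obj k) V),
        (c.ι.app k).hom.app (op V) a = c.pt.obj.map g.op s := by
    intro x
    obtain ⟨t, ht⟩ := exists_fib (gpt (W.hom.base x)) (U := W) x (gpt_default _).symm
    obtain ⟨k, y, hy⟩ := (hc _ (gpt (W.hom.base x))).1 (germ _ c.pt t s)
    obtain ⟨V, g, v, hv, a, ha⟩ := exists_nhd_image _ (c.ι.app k) t s y hy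
    obtain ⟨_, ⟨A, hA, rfl⟩, hvA, -⟩ := V.left.isBasis_affineOpens.exists_subset_of_mem_open
      (Set.mem_univ v) isOpen_univ
    refine ⟨opensObj V A, opensHom V A ≫ g, hA, ⟨(⟨v, hvA⟩ : (A : V.left.Opens)), hv.trans ht⟩, k,
      (D.obj k).obj.map (opensHom V A).op a, ?_⟩
    replace ha : (c.ι.app k).hom.app (op V) a = c.pt.obj.map g.op s := ha
    rw [op_comp, Functor.map_comp, ConcreteCategory.comp_apply, ← ha]
    exact ι_naturality D c k (opensHom V A) a
  choose V g hV hv k a ha using h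
  obtain ⟨T, hT⟩ := isCompact_univ.elim_finite_subcover (fun x : W.left => Set.range (g x).left.base)
    (fun x => GrothLib.EtBasicB.isOpen_range_left (g x)) (fun x _ => Set.mem_iUnion.2 ⟨x, hv x⟩)
  have : Nonempty J := IsFiltered.nonempty
  obtain ⟨k₀, hk₀⟩ := IsFiltered.sup_objs_exists (T.image k)
  let ψ : ∀ i : T, k i.1 ⟶ k₀ := fun i => (hk₀ (Finset.mem_image_of_mem k i.2)).some
  let b : ∀ i : T, EtCoh.sect (D.obj k₀) (V i.1) := fun i => (D.map (ψ i)).hom.app _ (a i.1)
  have hb : ∀ i : T, (c.ι.app k₀).hom.app (op (V i.1)) (b i) = c.pt.obj.map (g i.1).op s :=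
    fun i => (ι_map_apply D c (ψ i) _ _).trans (ha i.1)
  let G : ∀ i : T, (V i.1).left ⟶ W.left := fun i => (g i.1).left
  let P : T × T → X.Etale := fun p =>
    haveI : Etale (G p.2) := inferInstanceAs (Etale (g p.2.1).left)
    haveI : Etale (pullback.fst (G p.1) (G p.2)) := MorphismProperty.pullback_fst _ _ ‹_›
    GrothLib.EtBasicB.objOver (U := V p.1.1) (pullback.fst (G p.1) (G p.2))
  let pr₁ : ∀ p : T × T, P p ⟶ V p.1.1 := fun p =>
    MorphismProperty.Over.homMk (pullback.fst (G p.1) (G p.2)) rfl trivial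
  let pr₂ : ∀ p : T × T, P p ⟶ V p.2.1 := fun p =>
    MorphismProperty.Over.homMk (pullback.snd (G p.1) (G p.2)) (by
      change pullback.snd (G p.1) (G p.2) ≫ (V p.2.1).hom = pullback.fst (G p.1) (G p.2) ≫ (V p.1.1).hom
      rw [← MorphismProperty.Over.w (g p.1.1), ← MorphismProperty.Over.w (g p.2.1)]
      exact pullback.condition_assoc _ |>.symm) trivial
  have hP : ∀ p : T × T, CompactSpace (P p).left := fun p => by
    haveI := hV p.1.1
    haveI := hV p.2.1
    haveI : QuasiCompact (G p.2) := quasiCompact_of_compactSpace (G p.2)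
    haveI : QuasiCompact (pullback.fst (G p.1) (G p.2)) := inferInstance
    exact QuasiCompact.compactSpace_of_compactSpace (pullback.fst (G p.1) (G p.2))
  have hd : ∀ p : T × T, ∃ (l : J) (φ : k₀ ⟶ l),
      (D.map φ).hom.app (op (P p)) ((D.obj k₀).obj.map (pr₁ p).op (b p.1)) =
        (D.map φ).hom.app (op (P p)) ((D.obj k₀).obj.map (pr₂ p).op (b p.2)) := by
    intro p
    haveI := hP p
    have e : pr₁ p ≫ g p.1.1 = pr₂ p ≫ g p.2.1 := MorphismProperty.Over.Hom.ext pullback.condition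
    obtain ⟨l, φ, h⟩ := exists_kill hc (P p) k₀
      ((D.obj k₀).obj.map (pr₁ p).op (b p.1) - (D.obj k₀).obj.map (pr₂ p).op (b p.2)) (by
        rw [map_sub, sub_eq_zero, ι_naturality D c k₀ (pr₁ p),
          ι_naturality D c k₀ (pr₂ p), hb, hb, ← ConcreteCategory.comp_apply,
          ← ConcreteCategory.comp_apply, ← Functor.map_comp, ← Functor.map_comp, ← op_comp, ← op_comp, e])
    exact ⟨l, φ, by rwa [map_sub, sub_eq_zero] at h⟩
  choose l φ hφ using hd
  obtain ⟨m, χ₀, hm⟩ := exists_common Finset.univ l φ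
  have hagree : ∀ p : T × T, (D.obj m).obj.map (pr₁ p).op ((D.map χ₀).hom.app _ (b p.1)) =
      (D.obj m).obj.map (pr₂ p).op ((D.map χ₀).hom.app _ (b p.2)) := fun p => by
    obtain ⟨χ, hχ⟩ := hm p (Finset.mem_univ p)
    rw [← hχ, ← map_map_apply, ← map_map_apply, ← NatTrans.naturality_apply (D.map χ).hom (pr₁ p).op,
      ← NatTrans.naturality_apply (D.map χ).hom (pr₂ p).op,
      ← NatTrans.naturality_apply (D.map (φ p)).hom (pr₁ p).op,
      ← NatTrans.naturality_apply (D.map (φ p)).hom (pr₂ p).op, hφ p]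
  obtain ⟨z, hz⟩ := exists_glue (D.obj m) W (fun i : T => V i.1) (fun i => g i.1) (fun x => by
      obtain ⟨y, hy, hxy⟩ := Set.mem_iUnion₂.1 (hT (Set.mem_univ x))
      exact ⟨⟨y, hy⟩, hxy⟩)
    (fun i => (D.map χ₀).hom.app _ (b i)) (fun i j Z p q hpq => by
      let r : Z ⟶ P (i, j) := MorphismProperty.Over.homMk
        (pullback.lift p.left q.left (congrArg (fun k => k.left) hpq)) (by
          change pullback.lift p.left q.left _ ≫ pullback.fst (G i) (G j) ≫ (V i.1).hom = Z.hom
          rw [pullback.lift_fst_assoc]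
          exact MorphismProperty.Over.w p) trivial
      have e1 : r ≫ pr₁ (i, j) = p := MorphismProperty.Over.Hom.ext (pullback.lift_fst _ _ _)
      have e2 : r ≫ pr₂ (i, j) = q := MorphismProperty.Over.Hom.ext (pullback.lift_snd _ _ _)
      rw [← e1, ← e2, op_comp, op_comp, Functor.map_comp, Functor.map_comp, ConcreteCategory.comp_apply,
        ConcreteCategory.comp_apply, hagree (i, j)])
  refine ⟨m, z, sub_eq_zero.1 (section_eq_zero_of_germs _ W _ fun Ω _ _ ξ t => ?_)⟩
  obtain ⟨x, hx, v', hv'⟩ := Set.mem_iUnion₂.1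
    (hT (Set.mem_univ (t.left.base (default : Spec (CommRingCat.of Ω)))))
  obtain ⟨t', ht', -⟩ := GrothLib.EtBasicB.exists_fib_lift ξ (g x) t v' hv'
  rw [← ht', ← germ_map]
  refine (congrArg (germ ξ c.pt t') ?_).trans (map_zero _)
  rw [map_sub, sub_eq_zero]
  refine (ι_naturality D c m (g x) z).symm.trans ?_
  rw [hz ⟨x, hx⟩, ι_map_apply]
  exact hb ⟨x, hx⟩

/-- Every element of a stalk is a germ over an affine neighbourhood. -/
theorem exists_affine_germ {Ω : Type u} [Field Ω] [IsSepClosed Ω] (η : Spec (CommRingCat.of Ω) ⟶ Y)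
    {V : Y.Etale} (t : (Scheme.pointSmallEtale η).fiber.obj V) :
    ∃ (A : V.left.Opens) (t' : (Scheme.pointSmallEtale η).fiber.obj (opensObj V A)),
      IsAffine A.toScheme ∧ (Scheme.pointSmallEtale η).fiber.map (opensHom V A) t' = t := by
  let t₀ : Spec (CommRingCat.of Ω) ⟶ V.left := t.left
  obtain ⟨_, ⟨A, hA, rfl⟩, hvA, -⟩ := V.left.isBasis_affineOpens.exists_subset_of_mem_open
    (Set.mem_univ (t₀.base default)) isOpen_univ
  obtain ⟨t', ht', -⟩ := GrothLib.EtBasicB.exists_fib_lift η (opensHom V A) t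
    (⟨t₀.base default, hvA⟩ : (A : V.left.Opens)) rfl
  exact ⟨A, t', hA, ht'⟩

/-- A closed subset inside an open of a spectral space has a quasi-compact open around the
complement of the open avoiding it. -/
theorem exists_compact_open_avoiding {N : Scheme.{u}} [CompactSpace N] (O : N.Opens) (C : Set N)
    (hC : IsClosed C) (hCO : C ⊆ O) :
    ∃ U : N.Opens, IsCompact (U : Set N) ∧ (O : Set N)ᶜ ⊆ U ∧ Disjoint (U : Set N) C := by
  have h : ∀ x : ((O : Set N)ᶜ : Set N), ∃ A : N.Opens, IsAffineOpen A ∧ x.1 ∈ A ∧ (A : Set N) ⊆ Cᶜ := by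
    intro x
    obtain ⟨_, ⟨A, hA, rfl⟩, hxA, hAC⟩ := N.isBasis_affineOpens.exists_subset_of_mem_open
      (show x.1 ∈ Cᶜ from fun hx => x.2 (hCO hx)) hC.isOpen_compl
    exact ⟨A, hA, hxA, hAC⟩
  choose A hA hxA hAC using h
  obtain ⟨T, hT⟩ := O.2.isClosed_compl.isCompact.elim_finite_subcover (fun x => (A x : Set N))
    (fun x => (A x).2) (fun x hx => Set.mem_iUnion.2 ⟨⟨x, hx⟩, hxA ⟨x, hx⟩⟩)
  refine ⟨⨆ x ∈ T, A x, ?_, ?_, ?_⟩
  · rw [TopologicalSpace.Opens.coe_iSup]
    simp only [TopologicalSpace.Opens.coe_iSup]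
    exact T.finite_toSet.isCompact_biUnion fun x _ => (hA x).isCompact
  · simpa [TopologicalSpace.Opens.coe_iSup] using hT
  · simp only [TopologicalSpace.Opens.coe_iSup, Set.disjoint_iUnion_left]
    exact fun x _ => Set.disjoint_left.2 fun y hy hC' => hAC x hy hC'

variable (f : X ⟶ Y) [LocallyOfFiniteType f]

theorem isCompact_sectSupp {F : EtCoh.Ab X} {V : Y.Etale} [CompactSpace V.left]
    {s : EtCoh.sect F ((EtCoh.bc f).obj V)}
    (h : ClSub.IsProperOver (prV f V) (sectSupp F _ s)) : IsCompact (sectSupp F _ s) := by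
  obtain ⟨hZ, hp⟩ := h
  have : IsProper (GrothLib.ProperOver.redι (sectSupp F _ s) hZ ≫ prV f V) := hp
  have := QuasiCompact.compactSpace_of_compactSpace (GrothLib.ProperOver.redι (sectSupp F _ s) hZ ≫ prV f V)
  rw [← GrothLib.ProperOver.range_redι _ hZ]
  exact isCompact_range (GrothLib.ProperOver.redι (sectSupp F _ s) hZ).continuous

theorem exists_kill_Sh [IsFiltered J] {D : J ⥤ EtCoh.Ab X} {c : Cocone D} (hc : StalkColim D c)
    {Ω : Type u} [Field Ω] [IsSepClosed Ω] (η : Spec (CommRingCat.of Ω) ⟶ Y) (k : J)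
    (y : (EtCoh.stalk η).obj ((Sh f).obj (D.obj k)))
    (hy : (EtCoh.stalk η).map ((Sh f).map (c.ι.app k)) y = 0) :
    ∃ (l : J) (φ : k ⟶ l), (EtCoh.stalk η).map ((Sh f).map (D.map φ)) y = 0 := by
  obtain ⟨V, t, p, rfl⟩ := exists_germ η _ y
  rw [stalk_map_germ] at hy
  obtain ⟨V₁, g, v, hv, hg⟩ := eq_zero_nhd η _ t _ hy
  obtain ⟨t₁, ht₁, -⟩ := GrothLib.EtBasicB.exists_fib_lift η g t v hv
  obtain ⟨A, t₂, hA, ht₂⟩ := exists_affine_germ η t₁
  let e : opensObj V₁ A ⟶ V := opensHom V₁ A ≫ g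
  have : IsAffine (opensObj V₁ A).left := hA
  let B := (EtCoh.bc f).obj (opensObj V₁ A)
  let p' := ((Sh f).obj (D.obj k)).obj.map e.op p
  let s : EtCoh.sect (D.obj k) B := ((ι f).app (D.obj k)).hom.app _ p'
  have hs0 : (c.ι.app k).hom.app (op B) s = 0 := by
    refine (Sh_map_app f (D.obj k) c.pt (c.ι.app k) (opensObj V₁ A) p').symm.trans ?_
    refine (congrArg (((ι f).app c.pt).hom.app _) ?_).trans (map_zero _)
    refine (NatTrans.naturality_apply ((Sh f).map (c.ι.app k)).hom e.op p).trans ?_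
    rw [op_comp, Functor.map_comp, ConcreteCategory.comp_apply, hg, map_zero]
  have hZ := isCompact_sectSupp f ((mem_range_ι_iff f (D.obj k) _ s).1 ⟨p', rfl⟩)
  have h : ∀ x : B.left, ∃ (l : J) (φ : k ⟶ l) (W : X.Etale) (g : W ⟶ B),
      (∃ w : W.left, g.left.base w = x) ∧ (D.obj l).obj.map g.op ((D.map φ).hom.app (op B) s) = 0 := by
    intro x
    obtain ⟨τ, hτ⟩ := exists_fib (gpt (B.hom.base x)) (U := B) x (gpt_default _).symm
    obtain ⟨l, φ, hl⟩ := (hc _ (gpt (B.hom.base x))).2 k (germ _ (D.obj k) τ s) (by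
      rw [stalk_map_germ]
      exact (congrArg (germ _ c.pt τ) hs0).trans (map_zero _))
    obtain ⟨W, g, w, hw, hg⟩ := eq_zero_nhd _ (D.obj l) τ _ ((stalk_map_germ _ _ τ s).symm.trans hl)
    exact ⟨l, φ, W, g, ⟨w, hw.trans hτ⟩, hg⟩
  choose l φ W gW hw hgW using h
  obtain ⟨T, hT⟩ := hZ.elim_finite_subcover (fun x : B.left => Set.range (gW x).left.base)
    (fun x => GrothLib.EtBasicB.isOpen_range_left (gW x)) (fun x _ => Set.mem_iUnion.2 ⟨x, hw x⟩)
  obtain ⟨m, ψ, hm⟩ := exists_common T l φ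
  refine ⟨m, ψ, ?_⟩
  have het : (Scheme.pointSmallEtale η).fiber.map e t₂ = t := by
    rw [Functor.map_comp, ConcreteCategory.comp_apply, ht₂, ht₁]
  rw [stalk_map_germ, ← het, ← germ_map]
  refine (congrArg (germ η _ t₂) ?_).trans (map_zero _)
  refine injective_ι_app f (D.obj m) _ ?_
  rw [map_zero]
  refine (congrArg (((ι f).app (D.obj m)).hom.app _)
    (NatTrans.naturality_apply ((Sh f).map (D.map ψ)).hom e.op p).symm).trans ?_
  refine (Sh_map_app f (D.obj k) (D.obj m) (D.map ψ) (opensObj V₁ A) p').trans ?_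
  refine section_eq_zero_of_germs _ B _ fun Ω' _ _ ξ τ => ?_
  by_contra hne
  have hmem := sectSupp_map_subset (D.map ψ) B s ((GrothLib.EtBasicB.germ_ne_zero_iff ξ _ τ _).1 hne)
  obtain ⟨x, hx, w', hw'⟩ := Set.mem_iUnion₂.1 (hT hmem)
  obtain ⟨χ, hχ⟩ := hm x hx
  refine (GrothLib.EtBasicB.germ_ne_zero_iff ξ _ τ _).1 hne (W x) (gW x) ⟨w', hw'⟩ ?_
  rw [← hχ, ← map_map_apply]
  exact (NatTrans.naturality_apply (D.map χ).hom (gW x).op _).symm.trans
    ((congrArg ((D.map χ).hom.app (op (W x))) (hgW x)).trans (map_zero _))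

theorem exists_lift_Sh [IsFiltered J] [IsSeparated f] {D : J ⥤ EtCoh.Ab X} {c : Cocone D}
    (hc : StalkColim D c) {Ω : Type u} [Field Ω] [IsSepClosed Ω]
    (η : Spec (CommRingCat.of Ω) ⟶ Y) (x : (EtCoh.stalk η).obj ((Sh f).obj c.pt)) :
    ∃ (k : J) (y : (EtCoh.stalk η).obj ((Sh f).obj (D.obj k))),
      (EtCoh.stalk η).map ((Sh f).map (c.ι.app k)) y = x := by
  classical
  obtain ⟨V₁, t₁, p₁, rfl⟩ := exists_germ η _ x
  obtain ⟨A, t, hA, ht⟩ := exists_affine_germ η t₁
  rw [← ht, ← germ_map]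
  generalize ((Sh f).obj c.pt).obj.map (opensHom V₁ A).op p₁ = p
  clear ht t₁ p₁
  let V := opensObj V₁ A
  have : IsAffine V.left := hA
  let B := (EtCoh.bc f).obj V
  let s : EtCoh.sect c.pt B := ((ι f).app c.pt).hom.app (op V) p
  have hZp : ClSub.IsProperOver (prV f V) (sectSupp c.pt B s) := (mem_range_ι_iff f _ _ s).1 ⟨p, rfl⟩
  have hZc := isCompact_sectSupp f hZp
  -- a quasi-compact open around the support
  have hcov : ∀ x : B.left, ∃ A : B.left.Opens, IsAffineOpen A ∧ x ∈ A := fun x => by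
    obtain ⟨_, ⟨A, hA, rfl⟩, hxA, -⟩ := B.left.isBasis_affineOpens.exists_subset_of_mem_open
      (Set.mem_univ x) isOpen_univ
    exact ⟨A, hA, hxA⟩
  choose Af hAf hxAf using hcov
  obtain ⟨T, hT⟩ := hZc.elim_finite_subcover (fun x : B.left => (Af x : Set B.left))
    (fun x => (Af x).2) (fun x _ => Set.mem_iUnion.2 ⟨x, hxAf x⟩)
  let N : B.left.Opens := ⨆ x ∈ T, Af x
  have hNc : IsCompact (N : Set B.left) := by
    simp only [N, TopologicalSpace.Opens.coe_iSup]
    exact T.finite_toSet.isCompact_biUnion fun x _ => (hAf x).isCompact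
  have hZN : sectSupp c.pt B s ⊆ (N : Set B.left) := by
    simpa [N, TopologicalSpace.Opens.coe_iSup] using hT
  let Ni : N.toScheme ⟶ B.left := Scheme.Opens.ι N
  have : IsOpenImmersion Ni := Scheme.Opens.instIsOpenImmersionι N
  have : CompactSpace N.toScheme := isCompact_iff_compactSpace.1 hNc
  let h : N.toScheme ⟶ V.left := Ni ≫ prV f V
  have : IsSeparated h := inferInstanceAs (IsSeparated (Ni ≫ prV f V))
  have : QuasiCompact h := quasiCompact_of_compactSpace h
  have : LocallyOfFiniteType h := inferInstanceAs (LocallyOfFiniteType (Ni ≫ prV f V))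
  have : QuasiSeparatedSpace N.toScheme := quasiSeparatedSpace_of_quasiSeparated h
  -- compactify it over the base and thicken the support
  obtain ⟨Nb, j, gb, hj, hjq, hgb, hjg⟩ := Groth.Agent.S0384.result h
  have := hj
  have := hjq
  have := hgb
  have : CompactSpace Nb := QuasiCompact.compactSpace_of_compactSpace gb
  obtain ⟨hZ, hp⟩ := id hZp
  let r := GrothLib.ProperOver.redι (sectSupp c.pt B s) hZ
  have : IsProper (r ≫ prV f V) := hp
  let rN := IsOpenImmersion.lift Ni r (by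
    rw [GrothLib.ProperOver.range_redι, Scheme.Opens.range_ι]; exact hZN)
  have hrN : rN ≫ Ni = r := IsOpenImmersion.lift_fac _ _ _
  have : IsProper (rN ≫ j) := by
    have : IsProper ((rN ≫ j) ≫ gb) := by
      rw [Category.assoc, hjg, ← Category.assoc, hrN]; infer_instance
    exact IsProper.of_comp _ gb
  obtain ⟨U, hUc, hUO, hUC⟩ := exists_compact_open_avoiding j.opensRange (Set.range (rN ≫ j).base)
    (rN ≫ j).isClosedMap.isClosed_range (by
      rw [Scheme.Hom.comp_base, TopCat.coe_comp]; exact Set.range_comp_subset_range _ _)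
  let K : Set N.toScheme := j.base ⁻¹' (U : Set Nb)ᶜ
  let rU := GrothLib.ProperOver.redι (U : Set Nb)ᶜ U.2.isClosed_compl
  have hUR : (U : Set Nb)ᶜ ⊆ Set.range j.base := fun y hy => by
    by_contra hc'
    exact hy (hUO hc')
  have : IsClosedImmersion (pullback.fst j rU) := inferInstance
  have : IsProper (pullback.fst j rU ≫ h) := by
    have : IsIso (pullback.snd j rU) := by
      have : IsOpenImmersion (pullback.snd j rU) := inferInstance
      have : Surjective (pullback.snd j rU) := ⟨fun z => by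
        have : z ∈ Set.range (pullback.snd j rU) := by
          rw [Scheme.Pullback.range_snd]
          exact hUR ((GrothLib.ProperOver.range_redι _ U.2.isClosed_compl).le ⟨z, rfl⟩)
        exact this⟩
      exact (isIso_iff_isOpenImmersion_and_surjective _).2 ⟨inferInstance, inferInstance⟩
    have : IsProper (rU ≫ gb) := inferInstanceAs (IsProper (GrothLib.ProperOver.redι (U : Set Nb)ᶜ U.2.isClosed_compl ≫ gb))
    rw [← hjg, ← Category.assoc, pullback.condition, Category.assoc]
    infer_instance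
  have hKp : ClSub.IsProperOver h K :=
    GrothLib.ProperOver.isProperOver_of_closedImmersion h (pullback.fst j rU)
      (U.2.isClosed_compl.preimage j.continuous)
      (by rw [Scheme.Pullback.range_fst, GrothLib.ProperOver.range_redι])
  let K' : Set B.left := Ni.base '' K
  have hK' : ClSub.IsProperOver (prV f V) K' :=
    GrothLib.ProperOver.isProperOver_image h (prV f V) Ni rfl hKp fun hK => by
      have : IsProper (GrothLib.ProperOver.redι K hK ≫ h) := hKp.2
      have : IsProper ((GrothLib.ProperOver.redι K hK ≫ Ni) ≫ prV f V) := by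
        rw [Category.assoc]; assumption
      have := IsProper.of_comp (GrothLib.ProperOver.redι K hK ≫ Ni) (prV f V)
      infer_instance
  have hZK : sectSupp c.pt B s ⊆ K' := fun x hx => by
    obtain ⟨z, hz⟩ := (GrothLib.ProperOver.range_redι _ hZ).ge hx
    refine ⟨rN.base z, fun hU => Set.disjoint_left.1 hUC hU ⟨z, rfl⟩, ?_⟩
    rw [← Scheme.Hom.comp_apply, hrN]
    exact hz
  let M' : B.left.Opens := ⟨K'ᶜ, hK'.1.isOpen_compl⟩
  let NM : N.toScheme.Opens := j ⁻¹ᵁ U
  -- a representative on the neighbourhood vanishing off the thickened support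
  let BN := opensObj B N
  have : CompactSpace BN.left := inferInstanceAs (CompactSpace N.toScheme)
  have : QuasiSeparatedSpace BN.left := inferInstanceAs (QuasiSeparatedSpace N.toScheme)
  obtain ⟨k, a, ha⟩ := exists_stage hc BN (c.pt.obj.map (opensHom B N).op s)
  let BM := opensObj BN NM
  have : CompactSpace BM.left :=
    isCompact_iff_compactSpace.1 (QuasiCompact.isCompact_preimage (f := j) _ U.2 hUc)
  have hsM : ∀ (Z : X.Etale) (q : Z ⟶ B), (∀ z : Z.left, q.left.base z ∉ K') →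
      c.pt.obj.map q.op s = 0 := fun Z q hq => by
    refine section_eq_zero_of_germs _ Z _ fun Ω' _ _ ξ τ => ?_
    by_contra hne
    have hmem := (GrothLib.EtBasicB.germ_ne_zero_iff ξ _ τ _).1 hne
    rw [sectSupp_map] at hmem
    exact hq _ (hZK hmem)
  have hBM : ∀ z : BM.left, (opensHom BN NM ≫ opensHom B N).left.base z ∉ K' := fun z hz => by
    obtain ⟨n, hn, he⟩ := hz
    have : n = NM.ι.base z := Ni.isOpenEmbedding.injective he
    rw [this] at hn
    exact hn z.2
  obtain ⟨l, φ, hl⟩ := exists_kill hc BM k ((D.obj k).obj.map (opensHom BN NM).op a) (by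
    rw [ι_naturality D c k (opensHom BN NM), ha, ← ConcreteCategory.comp_apply,
      ← Functor.map_comp, ← op_comp]
    exact hsM BM _ hBM)
  -- glue
  let T' : Bool → X.Etale := fun b => bif b then BN else opensObj B M'
  let g' : ∀ b, T' b ⟶ B := fun b => match b with
    | true => opensHom B N
    | false => opensHom B M'
  let a' : ∀ b, EtCoh.sect (D.obj l) (T' b) := fun b => match b with
    | true => (D.map φ).hom.app (op BN) a
    | false => 0
  have hvan : ∀ (Z : X.Etale) (q : Z ⟶ BN) (q' : Z ⟶ opensObj B M'),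
      q ≫ opensHom B N = q' ≫ opensHom B M' → (D.obj l).obj.map q.op ((D.map φ).hom.app (op BN) a) = 0 := by
    intro Z q q' hq
    let qN : Z.left ⟶ N.toScheme := q.left
    let Mi : NM.toScheme ⟶ N.toScheme := Scheme.Opens.ι NM
    have : IsOpenImmersion Mi := Scheme.Opens.instIsOpenImmersionι NM
    have hr : Set.range qN.base ⊆ Set.range Mi.base := by
      rintro _ ⟨z, rfl⟩
      rw [Scheme.Opens.range_ι]
      by_contra hn
      refine (q'.left.base z).2 ⟨qN.base z, hn, ?_⟩
      exact congrArg (fun k : Z ⟶ B => k.left.base z) hq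
    let r : Z ⟶ BM := MorphismProperty.Over.homMk (IsOpenImmersion.lift Mi qN hr) (by
      change IsOpenImmersion.lift Mi qN hr ≫ Mi ≫ BN.hom = Z.hom
      rw [IsOpenImmersion.lift_fac_assoc]
      exact MorphismProperty.Over.w q) trivial
    have er : r ≫ opensHom BN NM = q := MorphismProperty.Over.Hom.ext (IsOpenImmersion.lift_fac _ _ hr)
    rw [← er, op_comp, Functor.map_comp, ConcreteCategory.comp_apply]
    refine (congrArg ((D.obj l).obj.map r.op) ?_).trans (map_zero _)
    exact (NatTrans.naturality_apply (D.map φ).hom (opensHom BN NM).op a).symm.trans hl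
  have hKN : K' ⊆ (N : Set B.left) := by
    rintro _ ⟨n, -, rfl⟩
    exact n.2
  obtain ⟨z, hz⟩ := exists_glue (D.obj l) B T' g' (fun x => by
      by_cases hx : x ∈ K'
      · exact ⟨true, (⟨x, hKN hx⟩ : N), rfl⟩
      · exact ⟨false, (⟨x, hx⟩ : M'), rfl⟩) a' (fun b b' Z q q' hq => by
      cases b <;> cases b'
      · change (D.obj l).obj.map q.op 0 = (D.obj l).obj.map q'.op 0
        rw [map_zero, map_zero]
      · change (D.obj l).obj.map q.op 0 = (D.obj l).obj.map q'.op _
        rw [map_zero]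
        exact (hvan Z q' q hq.symm).symm
      · change (D.obj l).obj.map q.op _ = (D.obj l).obj.map q'.op 0
        rw [map_zero]
        exact hvan Z q q' hq
      · have : q = q' := MorphismProperty.Over.Hom.ext
          ((cancel_mono Ni).1 (congrArg (fun k : Z ⟶ B => k.left) hq))
        rw [this])
  have hzK : sectSupp (D.obj l) B z ⊆ K' := fun x hx => by
    by_contra hc'
    exact hx _ (g' false) ⟨(⟨x, hc'⟩ : M'), rfl⟩ (hz false)
  have hzs : (c.ι.app l).hom.app (op B) z = s := by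
    refine sub_eq_zero.1 (section_eq_zero_of_germs _ B _ fun Ω' _ _ ξ τ => ?_)
    by_contra hne
    have hmem := (GrothLib.EtBasicB.germ_ne_zero_iff ξ _ τ _).1 hne
    by_cases hx : τ.left.base (default : Spec (CommRingCat.of Ω')) ∈ K'
    · refine hmem _ (g' true) ⟨(⟨_, hKN hx⟩ : N), rfl⟩ ?_
      rw [map_sub, sub_eq_zero]
      refine (ι_naturality D c l (g' true) z).symm.trans ?_
      rw [hz true]
      exact (ι_map_apply D c φ BN a).trans ha
    · refine hmem _ (g' false) ⟨(⟨_, hx⟩ : M'), rfl⟩ ?_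
      rw [map_sub, sub_eq_zero]
      refine (ι_naturality D c l (g' false) z).symm.trans ?_
      rw [hz false]
      exact (map_zero _).trans (hsM _ (opensHom B M') fun y => y.2).symm
  obtain ⟨q, hq⟩ := (mem_range_ι_iff f (D.obj l) V z).2
    (GrothLib.ProperOver.IsProperOver.subset (prV f V) hK' (isClosed_sectSupp _ _ _) hzK)
  refine ⟨l, germ η _ t q, ?_⟩
  rw [stalk_map_germ]
  refine congrArg (germ η _ t) (injective_ι_app f c.pt V ?_)
  refine (Sh_map_app f (D.obj l) c.pt (c.ι.app l) V q).trans ?_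
  rw [hq]
  exact hzs

/-- Sections with proper support commute with filtered colimits, stalk by stalk. -/
theorem stalkColim_mapCocone [IsFiltered J] [IsSeparated f] {D : J ⥤ EtCoh.Ab X} {c : Cocone D}
    (hc : StalkColim D c) : StalkColim (D ⋙ Sh f) ((Sh f).mapCocone c) :=
  fun _ _ _ η => ⟨fun x => exists_lift_Sh f hc η x, fun k y hy => exists_kill_Sh f hc η k y hy⟩

end GrothLib.EtShriek
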