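import Groth.Agent.Lib.EtShriek.Isolate
import Groth.Agent.Lib.EtSite.PropSplit
import Groth.Agent.Lib.EtSite.PushUI
import Mathlib.Algebra.DirectSum.Basic
import Mathlib.Algebra.Category.Grp.Colimits

/-!
# Stalks of sections with proper support along separated locally quasi-finite morphisms
-/

set_option autoImplicit false
set_option backward.isDefEq.respectTransparency false
universe u

open CategoryTheory CategoryTheory.Limits AlgebraicGeometry Opposite
open GrothLib.EtSite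

noncomputable section

namespace GrothLib.EtShriek

variable {X Y : Scheme.{u}}

/-- A bijection onto finitely supported families, as an isomorphism with a coproduct. -/
theorem nonempty_iso_sigma {ι : Type u} (S : ι → AddCommGrpCat.{u + 1}) (M : AddCommGrpCat.{u + 1})
    (ev : ∀ i, M ⟶ S i) (hinj : ∀ x, (∀ i, ev i x = 0) → x = 0)
    (hfin : ∀ x, {i | ev i x ≠ 0}.Finite)
    (hδ : ∀ i (a : S i), ∃ x, ev i x = a ∧ ∀ j, j ≠ i → ev j x = 0) : Nonempty (M ≅ ∐ S) := by
  classical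
  choose δ hδ₁ hδ₂ using hδ
  have hext : ∀ x y : M, (∀ i, ev i x = ev i y) → x = y := fun x y h =>
    sub_eq_zero.1 (hinj _ fun i => by rw [map_sub, h i, sub_self])
  have hadd : ∀ i a b, δ i (a + b) = δ i a + δ i b := fun i a b => hext _ _ fun j => by
    by_cases h : j = i
    · subst h; rw [map_add, hδ₁, hδ₁, hδ₁]
    · rw [map_add, hδ₂ i _ j h, hδ₂ i _ j h, hδ₂ i _ j h, add_zero]
  let Ψ : (∐ S) ⟶ M := Sigma.desc fun i => AddCommGrpCat.ofHom (AddMonoidHom.mk' (δ i) (hadd i))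
  have hΨ : ∀ i a, Ψ (Sigma.ι S i a) = δ i a := fun i a =>
    ConcreteCategory.congr_hom (Sigma.ι_desc (fun i => AddCommGrpCat.ofHom
      (AddMonoidHom.mk' (δ i) (hadd i))) i) a
  let D := AddCommGrpCat.of (DirectSum ι fun i => S i)
  let e : (∐ S) ⟶ D := Sigma.desc fun i =>
    AddCommGrpCat.ofHom (DirectSum.of (fun i => (S i : Type (u + 1))) i)
  let b : D ⟶ ∐ S := AddCommGrpCat.ofHom
    (DirectSum.toAddMonoid (β := fun i => (S i : Type (u + 1))) fun i => (Sigma.ι S i).hom)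
  have heb : e ≫ b = 𝟙 _ := Sigma.hom_ext _ _ fun i => by
    rw [Sigma.ι_desc_assoc, Category.comp_id]
    ext a
    exact DirectSum.toAddMonoid_of (fun i => (Sigma.ι S i).hom) i a
  have hev : ∀ i, Ψ ≫ ev i = e ≫ AddCommGrpCat.ofHom (DFinsupp.evalAddMonoidHom i) := fun i => by
    refine Sigma.hom_ext _ _ fun j => ?_
    rw [Sigma.ι_desc_assoc, Sigma.ι_desc_assoc]
    ext a
    change ev i (δ j a) = (DirectSum.of (fun i => (S i : Type (u + 1))) j a) i
    by_cases h : i = j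
    · subst h
      rw [hδ₁, DirectSum.of_eq_same]
    · rw [hδ₂ j a i h, DirectSum.of_eq_of_ne _ _ _ h]
  have : Function.Bijective Ψ := by
    refine ⟨(injective_iff_map_eq_zero Ψ.hom).2 fun z hz => ?_, fun x => ?_⟩
    · have hz0 : e z = 0 := DFinsupp.ext fun i => by
        refine (ConcreteCategory.congr_hom (hev i) z).symm.trans ?_
        change ev i (Ψ z) = 0
        rw [show Ψ z = 0 from hz, map_zero]
      rw [show z = b (e z) from (ConcreteCategory.congr_hom heb z).symm, hz0, map_zero]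
    · refine ⟨∑ i ∈ (hfin x).toFinset, Sigma.ι S i (ev i x), hext _ _ fun j => ?_⟩
      rw [map_sum, map_sum, Finset.sum_eq_single j]
      · rw [hΨ, hδ₁]
      · intro i _ hij
        rw [hΨ, hδ₂ i _ j (Ne.symm hij)]
      · intro h
        rw [Set.Finite.mem_toFinset, Set.mem_setOf_eq, not_not] at h
        rw [h, map_zero, map_zero, map_zero]
  have := (ConcreteCategory.isIso_iff_bijective Ψ).2 this
  exact ⟨(asIso Ψ).symm⟩

/-- Surjectivity on stalks at algebraically closed points gives an epimorphism. -/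
theorem epi_of_stalksAC {F G : EtCoh.Ab X} (a : F ⟶ G)
    (h : ∀ (Ω : Type u) [Field Ω] [IsAlgClosed Ω] (ξ : Spec (CommRingCat.of Ω) ⟶ X),
      Function.Surjective ((EtCoh.stalk ξ).map a)) : Epi a := by
  have : Sheaf.IsLocallySurjective a := ⟨fun {U} s => by
    rw [mem_topology_iff]
    intro u
    obtain ⟨t, ht⟩ := exists_fib (gac (U.hom.base u)) u (gac_default _).symm
    obtain ⟨p, hp⟩ := h _ (gac (U.hom.base u)) (germ _ G t s)
    obtain ⟨V, g, v, hv, z, hz⟩ := exists_nhd_image _ a t s p hp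
    exact ⟨V, g, v, ⟨z, hz⟩, hv.trans ht⟩⟩
  exact Sheaf.epi_of_isLocallySurjective a

variable (f : X ⟶ Y) [IsSeparated f] [LocallyOfFiniteType f] [LocallyQuasiFinite f]
  {Ω : Type u} [Field Ω] [IsAlgClosed Ω] {η : Spec (CommRingCat.of Ω) ⟶ Y}

/-- Every germ at one point over `η` is the germ of a section with proper support vanishing at the
other points over `η`. -/
theorem exists_delta (F : EtCoh.Ab X) (ξ : Spec (CommRingCat.of Ω) ⟶ X) (hξ : ξ ≫ f = η)
    (a : (EtCoh.stalk ξ).obj F) :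
    ∃ x : (EtCoh.stalk η).obj ((Sh f).obj F), stalkEv f ξ hξ F x = a ∧
      ∀ (ξ' : Spec (CommRingCat.of Ω) ⟶ X) (hξ' : ξ' ≫ f = η), ξ' ≠ ξ → stalkEv f ξ' hξ' F x = 0 := by
  obtain ⟨W, w, s, rfl⟩ := exists_germ ξ F a
  obtain ⟨V, t, O, k, p, hOc, hOp, hp1, hp2, huniq⟩ := exists_isolating f ξ hξ W w
  let B := (EtCoh.bc f).obj V
  let O' : B.left.Opens := ⟨(O : Set B.left)ᶜ, hOc.isOpen_compl⟩
  let Os : Bool → B.left.Opens := fun b => if b then O else O'
  have hdisj : ∀ a b, a ≠ b → Disjoint (Os a) (Os b) := by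
    intro a b hab
    rw [disjoint_iff_inf_le]
    rintro x ⟨h1, h2⟩
    cases a <;> cases b <;> first | exact absurd rfl hab | exact absurd h2 h1 | exact absurd h1 h2
  have hsup : (⨆ a, Os a) = ⊤ := by
    refine eq_top_iff.2 fun x _ => TopologicalSpace.Opens.mem_iSup.2 ?_
    by_cases hx : x ∈ (O : Set B.left)
    · exact ⟨true, hx⟩
    · exact ⟨false, hx⟩
  let d : ∀ a, F.obj.obj (op (opensObj B (Os a))) := fun a =>
    match a with
    | true => F.obj.map k.op s
    | false => 0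
  obtain ⟨z, hz, -⟩ := existsUnique_glue
    ((isSheaf_iff_isSheaf_of_type _ _).1
      ((sheafCompose X.smallEtaleTopology (forget AddCommGrpCat.{u + 1})).obj F).property) B Os hdisj hsup d
  have hsupp : EtShriek.sectSupp F B z ⊆ (O : Set B.left) := fun x hx => by
    by_contra hc
    exact hx _ (opensHom B O') ⟨⟨x, hc⟩, rfl⟩ (hz false)
  have : IsClosedImmersion O.ι := .of_isPreimmersion _ (by rw [Scheme.Opens.range_ι]; exact hOc)
  have hmem : ClSub.IsProperOver (EtShriek.prV f V) (EtShriek.sectSupp F B z) := by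
    have : IsProper (O.ι ≫ EtShriek.prV f V) := hOp
    exact GrothLib.ProperOver.isProperOver_of_closedImmersion _ O.ι (isClosed_sectSupp F B z)
      (hsupp.trans (Scheme.Opens.range_ι O).ge)
  obtain ⟨q, hq⟩ := (mem_range_ι_iff f F V z).2 hmem
  refine ⟨germ η ((Sh f).obj F) t q, ?_, fun ξ' hξ' hne => ?_⟩
  · rw [stalkEv_germ, hq, ← hp1, ← germ_map, ← hp2, ← germ_map]
    exact congrArg (germ ξ F p) (hz true)
  · rw [stalkEv_germ, hq]
    by_contra h
    exact hne (huniq ξ' hξ' (hsupp ((GrothLib.EtBasicB.germ_ne_zero_iff ξ' F (liftPt f t ξ' hξ') z).1 h)))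

variable (η) in
theorem nonempty_stalk_iso (F : EtCoh.Ab X) :
    Nonempty ((EtCoh.stalk η).obj ((EtShriek.lowerShriek f).obj F) ≅
      ∐ fun ξ : {ξ : Spec (CommRingCat.of Ω) ⟶ X // ξ ≫ f = η} => (EtCoh.stalk ξ.1).obj F) := by
  obtain ⟨e⟩ := nonempty_iso_sigma
    (fun ξ : {ξ : Spec (CommRingCat.of Ω) ⟶ X // ξ ≫ f = η} => (EtCoh.stalk ξ.1).obj F)
    ((EtCoh.stalk η).obj ((Sh f).obj F)) (fun ξ => stalkEv f ξ.1 ξ.2 F)
    (fun x h => stalkEv_jointly_injective f F x fun ξ hξ => h ⟨ξ, hξ⟩)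
    (finite_support f F) (fun ξ a => by
      obtain ⟨x, h1, h2⟩ := exists_delta f F ξ.1 ξ.2 a
      exact ⟨x, h1, fun ξ' hne => h2 ξ'.1 ξ'.2 fun h => hne (Subtype.ext h)⟩)
  exact ⟨(EtCoh.stalk η).mapIso ((lowerShriekIso f).app F) ≪≫ e⟩

theorem surjective_stalk_map {F G : EtCoh.Ab X} (a : F ⟶ G) [Epi a] :
    Function.Surjective ((EtCoh.stalk η).map ((Sh f).map a)) := by
  classical
  intro y
  let S := (finite_support f G y).toFinset
  have hs : ∀ ξ : {ξ : Spec (CommRingCat.of Ω) ⟶ X // ξ ≫ f = η},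
      Function.Surjective ((EtCoh.stalk ξ.1).map a) := fun ξ =>
    (AddCommGrpCat.epi_iff_surjective _).1 inferInstance
  choose l hl using fun ξ : {ξ : Spec (CommRingCat.of Ω) ⟶ X // ξ ≫ f = η} =>
    hs ξ (stalkEv f ξ.1 ξ.2 G y)
  choose δ hδ₁ hδ₂ using fun ξ : {ξ : Spec (CommRingCat.of Ω) ⟶ X // ξ ≫ f = η} =>
    exists_delta f F ξ.1 ξ.2 (l ξ)
  refine ⟨∑ ξ ∈ S, δ ξ, sub_eq_zero.1 (stalkEv_jointly_injective f G _ fun ξ hξ => ?_)⟩
  rw [map_sub, sub_eq_zero, stalkEv_naturality, map_sum, map_sum, Finset.sum_eq_single (⟨ξ, hξ⟩ : {ξ // ξ ≫ f = η})]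
  · rw [hδ₁ ⟨ξ, hξ⟩]
    exact hl ⟨ξ, hξ⟩
  · intro ξ' _ hne
    rw [hδ₂ ξ' ξ hξ fun h => hne (Subtype.ext h.symm), map_zero]
  · intro h
    rw [Set.Finite.mem_toFinset, Set.mem_setOf_eq, not_not] at h
    rw [hδ₁ ⟨ξ, hξ⟩, hl ⟨ξ, hξ⟩]
    exact h

omit Ω η

instance preservesEpimorphisms_Sh : (Sh f).PreservesEpimorphisms where
  preserves {F G} a _ := epi_of_stalksAC _ fun Ω _ _ η => surjective_stalk_map f a

theorem preservesFiniteColimits_lowerShriek : PreservesFiniteColimits (EtShriek.lowerShriek f) := by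
  have := (Sh f).preservesHomology_of_preservesEpis_and_kernels
  have : PreservesFiniteColimits (Sh f) := (Sh f).preservesFiniteColimits_of_preservesHomology
  exact preservesFiniteColimits_of_natIso (lowerShriekIso f).symm

end GrothLib.EtShriek
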