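import Groth.Agent.Lib.EtShriek.Colim
import Groth.Agent.Lib.EtShriek.Stalk
import Mathlib.CategoryTheory.Limits.Constructions.Filtered

/-!
# Direct image with proper support preserves filtered colimits and coproducts
-/

set_option autoImplicit false
set_option backward.isDefEq.respectTransparency false
universe w' w u

open CategoryTheory CategoryTheory.Limits AlgebraicGeometry Opposite
open EtShriek GrothLib.EtSite

noncomputable section

namespace GrothLib.EtShriek

variable {X Y : Scheme.{u}} {J : Type w} [Category.{w'} J]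

/-- Colimit cocones are colimits on stalks. -/
theorem stalkColim_of_isColimit [IsFiltered J] {D : J ⥤ EtCoh.Ab X} {c : Cocone D} (hc : IsColimit c)
    (h : ∀ (Ω : Type u) [Field Ω] [IsSepClosed Ω] (ξ : Spec (CommRingCat.of Ω) ⟶ X),
      PreservesColimit D (EtCoh.stalk ξ ⋙ CategoryTheory.forget AddCommGrpCat.{u + 1})) :
    StalkColim D c := by
  intro Ω _ _ ξ
  have := h Ω ξ
  have ht := isColimitOfPreserves (EtCoh.stalk ξ ⋙ CategoryTheory.forget AddCommGrpCat.{u + 1}) hc
  refine ⟨fun x => Types.jointly_surjective_of_isColimit ht x, fun k y hy => ?_⟩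
  let z : (EtCoh.stalk ξ).obj (D.obj k) := 0
  have h0 : (EtCoh.stalk ξ).map (c.ι.app k) z = 0 := map_zero ((EtCoh.stalk ξ).map (c.ι.app k)).hom
  obtain ⟨l, φ, hl⟩ := (Types.FilteredColimit.isColimit_eq_iff' ht y z).1 (hy.trans h0.symm)
  exact ⟨l, φ, Eq.trans hl (map_zero ((EtCoh.stalk ξ).map (D.map φ)).hom)⟩

/-- A cocone which is a colimit on stalks is a colimit. -/
theorem isColimit_of_stalkColim [IsFiltered J] {D : J ⥤ EtCoh.Ab Y} {c : Cocone D} (hc : StalkColim D c)
    [HasColimit D]
    (h : ∀ (Ω : Type u) [Field Ω] [IsSepClosed Ω] (ξ : Spec (CommRingCat.of Ω) ⟶ Y),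
      PreservesColimit D (EtCoh.stalk ξ ⋙ CategoryTheory.forget AddCommGrpCat.{u + 1})) :
    Nonempty (IsColimit c) := by
  have hd := stalkColim_of_isColimit (colimit.isColimit D) h
  let θ : colimit D ⟶ c.pt := colimit.desc D c
  have hθ : ∀ k, colimit.ι D k ≫ θ = c.ι.app k := colimit.ι_desc c
  have hk : ∀ (Ω : Type u) [Field Ω] [IsSepClosed Ω] (ξ : Spec (CommRingCat.of Ω) ⟶ Y) (k : J)
      (y : (EtCoh.stalk ξ).obj (D.obj k)),
      (EtCoh.stalk ξ).map θ ((EtCoh.stalk ξ).map (colimit.ι D k) y) = (EtCoh.stalk ξ).map (c.ι.app k) y :=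
    fun Ω _ _ ξ k y => by rw [← hθ k, Functor.map_comp]; rfl
  have : IsIso θ := isIso_of_stalksAC θ fun Ω _ _ ξ => by
    refine ⟨(injective_iff_map_eq_zero ((EtCoh.stalk ξ).map θ).hom).2 fun x hx => ?_, fun x => ?_⟩
    · obtain ⟨k, y, rfl⟩ := (hd Ω ξ).1 x
      obtain ⟨l, φ, hl⟩ := (hc Ω ξ).2 k y ((hk Ω ξ k y).symm.trans hx)
      change (EtCoh.stalk ξ).map (colimit.ι D k) y = 0
      rw [← colimit.w D φ, Functor.map_comp]
      exact (congrArg ((EtCoh.stalk ξ).map (colimit.ι D l)) hl).trans (map_zero _)
    · obtain ⟨k, y, rfl⟩ := (hc Ω ξ).1 x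
      exact ⟨_, hk Ω ξ k y⟩
  exact ⟨IsColimit.ofIsoColimit (colimit.isColimit D) (Cocone.ext (asIso θ) hθ)⟩

variable (f : X ⟶ Y) [IsSeparated f] [LocallyOfFiniteType f]

theorem preservesColimitsOfShape_Sh [IsFiltered J] [HasColimitsOfShape J (EtCoh.Ab Y)]
    (hX : ∀ (Ω : Type u) [Field Ω] [IsSepClosed Ω] (ξ : Spec (CommRingCat.of Ω) ⟶ X),
      PreservesColimitsOfShape J (EtCoh.stalk ξ ⋙ CategoryTheory.forget AddCommGrpCat.{u + 1}))
    (hY : ∀ (Ω : Type u) [Field Ω] [IsSepClosed Ω] (ξ : Spec (CommRingCat.of Ω) ⟶ Y),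
      PreservesColimitsOfShape J (EtCoh.stalk ξ ⋙ CategoryTheory.forget AddCommGrpCat.{u + 1})) :
    PreservesColimitsOfShape J (Sh f) :=
  ⟨fun {D} => ⟨fun {c} hc => @isColimit_of_stalkColim _ _ _ _ (D ⋙ Sh f) ((Sh f).mapCocone c)
    (stalkColim_mapCocone f (stalkColim_of_isColimit hc fun Ω _ _ ξ => (hX Ω ξ).preservesColimit))
    (HasColimitsOfShape.has_colimit _)
    fun Ω _ _ ξ => (hY Ω ξ).preservesColimit⟩⟩

instance preservesFilteredColimits_stalk_forget {Ω : Type u} [Field Ω] [IsSepClosed Ω]
    (ξ : Spec (CommRingCat.of Ω) ⟶ X) :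
    PreservesFilteredColimitsOfSize.{u + 1, u + 1} (EtCoh.stalk ξ ⋙ CategoryTheory.forget AddCommGrpCat.{u + 1}) :=
  ⟨fun J _ _ =>
    have := AddCommGrpCat.FilteredColimits.forget_preservesFilteredColimits.{u + 1}
    have : PreservesColimitsOfShape J (CategoryTheory.forget AddCommGrpCat.{u + 1}) :=
      PreservesFilteredColimitsOfSize.preserves_filtered_colimits J
    inferInstance⟩

theorem preservesFilteredColimits_Sh : PreservesFilteredColimitsOfSize.{u + 1, u + 1} (Sh f) :=
  ⟨fun J _ _ => preservesColimitsOfShape_Sh f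
    (fun _ _ _ ξ => PreservesFilteredColimitsOfSize.preserves_filtered_colimits J)
    (fun _ _ _ ξ => PreservesFilteredColimitsOfSize.preserves_filtered_colimits J)⟩

/-- A functor preserving finite coproducts and filtered colimits preserves coproducts. -/
theorem preservesCoproduct_of_filtered {C D : Type*} [Category C] [Category D]
    (F : C ⥤ D) {α : Type w} (g : α → C) [HasFiniteCoproducts C] [HasFiniteCoproducts D]
    [PreservesFiniteCoproducts F] [HasColimitsOfShape (Finset (Discrete α)) C]
    [HasColimitsOfShape (Finset (Discrete α)) D] [PreservesColimitsOfShape (Finset (Discrete α)) F]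
    [HasCoproduct g] [HasCoproduct fun a => F.obj (g a)] :
    PreservesColimit (Discrete.functor g) F := by
  open CoproductsFromFiniteFiltered in
  let h₁ := isColimitFiniteSubproductsCocone (fun a => F.obj (g a))
  let h₂ := isColimitOfPreserves F (isColimitFiniteSubproductsCocone g)
  have : ∀ S : Finset (Discrete α), PreservesColimit (Discrete.functor fun x : S =>
      (Discrete.functor g).obj x.1) F := fun S => inferInstance
  let e : liftToFinsetObj (Discrete.functor fun a => F.obj (g a)) ≅
      liftToFinsetObj (Discrete.functor g) ⋙ F :=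
    NatIso.ofComponents (fun S => @asIso _ _ _ _ (sigmaComparison F (fun x : S => (Discrete.functor g).obj x.1))
      inferInstance) (fun {S T} φ => by
      apply Sigma.hom_ext
      intro x
      simp [sigmaComparison, ← F.map_comp])
  let i := IsColimit.coconePointsIsoOfNatIso h₁ h₂ e
  have hi : sigmaComparison F g = i.hom := by
    apply Sigma.hom_ext
    intro a
    rw [ι_comp_sigmaComparison]
    have h := IsColimit.ι_map h₁ (F.mapCocone (finiteSubcoproductsCocone g)) e.hom ({⟨a⟩} : Finset (Discrete α))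
    have h' := congrArg (fun k => Sigma.ι (fun x : ({⟨a⟩} : Finset (Discrete α)) =>
      (Discrete.functor fun a => F.obj (g a)).obj x.1) ⟨⟨a⟩, Finset.mem_singleton_self _⟩ ≫ k) h
    simp [e, i, sigmaComparison, ← F.map_comp] at h' ⊢
    exact h'.symm
  have : IsIso (sigmaComparison F g) := by rw [hi]; infer_instance
  exact PreservesCoproduct.of_iso_comparison F g

theorem preservesCoproducts_Sh (α : Type (u + 1)) : PreservesColimitsOfShape (Discrete α) (Sh f) := by
  have := preservesFilteredColimits_Sh f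
  have : PreservesColimitsOfShape (Finset (Discrete α)) (Sh f) :=
    PreservesFilteredColimitsOfSize.preserves_filtered_colimits _
  have : PreservesFiniteBiproducts (Sh f) := inferInstance
  have : PreservesFiniteCoproducts (Sh f) := ⟨fun n => inferInstance⟩
  refine ⟨fun {K} => ?_⟩
  have : PreservesColimit (Discrete.functor (K.obj ∘ Discrete.mk)) (Sh f) :=
    preservesCoproduct_of_filtered (Sh f) (K.obj ∘ Discrete.mk)
  exact preservesColimit_of_iso_diagram (Sh f) Discrete.natIsoFunctor.symm

theorem preservesCoproducts_lowerShriek (ι : Type u) :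
    PreservesColimitsOfShape (Discrete ι) (lowerShriek f) := by
  have := preservesCoproducts_Sh f (ULift.{u + 1} ι)
  have : PreservesColimitsOfShape (Discrete ι) (Sh f) :=
    preservesColimitsOfShape_of_equiv (Discrete.equivalence Equiv.ulift) _
  exact preservesColimitsOfShape_of_natIso (lowerShriekIso f).symm

theorem preservesFilteredColimits_lowerShriek :
    PreservesFilteredColimitsOfSize.{u, u} (lowerShriek f) := by
  have := preservesFilteredColimits_Sh f
  have : PreservesFilteredColimitsOfSize.{u, u} (Sh f) :=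
    preservesFilteredColimitsOfSize_of_univLE.{u + 1, u + 1} _
  exact ⟨fun J _ _ => preservesColimitsOfShape_of_natIso (lowerShriekIso f).symm⟩

theorem isLeftAdjoint_lowerShriek [LocallyQuasiFinite f] : (lowerShriek f).IsLeftAdjoint := by
  have := preservesFiniteColimits_lowerShriek f
  have : PreservesFiniteColimits (Sh f) := preservesFiniteColimits_of_natIso (lowerShriekIso f)
  have : ∀ α : Type (u + 1), PreservesColimitsOfShape (Discrete α) (Sh f) := preservesCoproducts_Sh f
  have : PreservesColimits (Sh f) := preservesColimits_of_preservesCoequalizers_and_coproducts _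
  have : (Sh f).IsLeftAdjoint :=
    isLeftAdjoint_of_preservesColimits_of_isSeparating (isSeparator_separator (EtCoh.Ab X)) (Sh f)
  exact Functor.isLeftAdjoint_of_iso (lowerShriekIso f).symm

end GrothLib.EtShriek
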