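import Groth.Agent.Lib.EtShriek.Points
import Groth.Agent.Lib.ExtZero.Compare
import Groth.Agent.Lib.EtSite.PushUI
import Groth.Agent.Lib.EtBasicB.OverField

/-!
# Extension by zero is the direct image with proper support
-/

set_option autoImplicit false
set_option backward.isDefEq.respectTransparency false
universe u

open CategoryTheory CategoryTheory.Limits AlgebraicGeometry Opposite
open EtShriek GrothLib.EtSite GrothLib.ExtZero

noncomputable section

namespace GrothLib.EtShriek

variable {U X : Scheme.{u}} (j : U ⟶ X) [Etale j] [IsSeparated j]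

theorem isProperOver_sectSupp_ext₀ (F : EtCoh.Ab U) (W : U.Etale) (s : EtCoh.sect F W) :
    ClSub.IsProperOver (prV j ((compEtale j).obj W)) (sectSupp F _ (ext₀ j F W s)) := by
  have : IsProper ((diag j W).left ≫ prV j ((compEtale j).obj W)) := by
    change IsProper ((diag j W).left ≫ dblFst j W)
    rw [diag_fst]
    infer_instance
  refine GrothLib.ProperOver.isProperOver_of_closedImmersion _ (diag j W).left
    (isClosed_sectSupp F _ _) fun x hx => ?_
  by_contra hc
  exact hx _ (opensHom (dbl j W) (offDiag j W)) ⟨⟨x, hc⟩, rfl⟩ (isExt_ext₀ j F W s).2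

theorem ext₀_mem (F : EtCoh.Ab U) (W : U.Etale) (s : EtCoh.sect F W) :
    ext₀ j F W s ∈ shriekSubgroup j F ((compEtale j).obj W) :=
  (mem_shriekSubgroup_iff' j F _ _).2 (isProperOver_sectSupp_ext₀ j F W s)

instance (priority := low) locallyQuasiFinite_of_etale {A B : Scheme.{u}} (g : A ⟶ B) [Etale g] :
    LocallyQuasiFinite g :=
  GrothLib.EtBasicB.locallyQuasiFinite_of_unramified g

variable [EtShriek.JCont j]

/-- Extension by zero of sections, with values in sections with proper support. -/
def extRestrSh (F : EtCoh.Ab U) : F ⟶ (restrAlong j).obj ((Sh j).obj F) :=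
  ⟨{ app := fun W => AddCommGrpCat.ofHom ((((extRestr j F).hom.app W).hom).codRestrict
        (shriekSubgroup j F ((compEtale j).obj W.unop)) (ext₀_mem j F W.unop))
     naturality := fun W W' g => by
      ext s
      apply Subtype.ext
      exact ConcreteCategory.congr_hom ((extRestr j F).hom.naturality g) s }⟩

theorem extRestrSh_ι (F : EtCoh.Ab U) :
    extRestrSh j F ≫ (restrAlong j).map ((ι j).app F) = extRestr j F := by
  apply Sheaf.hom_ext
  ext W s
  rfl

/-- The comparison map from extension by zero. -/
def toSh : extZero j ⟶ Sh j where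
  app F := ((extZeroAdj j).homEquiv _ _).symm (extRestrSh j F)
  naturality F G a := by
    rw [← Adjunction.homEquiv_naturality_left_symm, ← Adjunction.homEquiv_naturality_right_symm]
    congr 1
    rw [← cancel_mono ((restrAlong j).map ((ι j).app G))]
    rw [Category.assoc, extRestrSh_ι, Category.assoc, ← Functor.map_comp, (ι j).naturality,
      Functor.map_comp, ← Category.assoc (extRestrSh j F), extRestrSh_ι, extRestr_naturality]

theorem toSh_ι (F : EtCoh.Ab U) : (toSh j).app F ≫ (ι j).app F = (toPush j).app F := by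
  change ((extZeroAdj j).homEquiv _ _).symm (extRestrSh j F) ≫ _ = _
  rw [← Adjunction.homEquiv_naturality_right_symm, extRestrSh_ι]
  rfl

variable {Ω : Type u} [Field Ω] [IsAlgClosed Ω] (η : Spec (CommRingCat.of Ω) ⟶ X)

theorem stalkEv_toSh (F : EtCoh.Ab U) (u : Pts j η) (z : stalkSum j η F) :
    stalkEv j u.1 u.2 F ((EtCoh.stalk η).map ((toSh j).app F) (fromSum j η F z)) =
      component j η F u z := by
  change ev j u.1 u.2 F ((EtCoh.stalk η).map ((ι j).app F)
    ((EtCoh.stalk η).map ((toSh j).app F) (fromSum j η F z))) =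
      ev j u.1 u.2 F ((EtCoh.stalk η).map ((toPush j).app F) (fromSum j η F z))
  rw [← toSh_ι, Functor.map_comp]
  rfl

theorem bijective_stalk_toSh (F : EtCoh.Ab U) :
    Function.Bijective ((EtCoh.stalk η).map ((toSh j).app F)) := by
  classical
  refine ⟨?_, fun x => ?_⟩
  · refine Function.Injective.of_comp (f := (EtCoh.stalk η).map ((ι j).app F)) ?_
    have := injective_stalk_toPush j η F
    rw [← toSh_ι, Functor.map_comp] at this
    exact this
  · let S := (finite_support j F x).toFinset
    let z : stalkSum j η F := ∑ u ∈ S,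
      Sigma.ι (fun u : Pts j η => (EtCoh.stalk u.1).obj F) u (stalkEv j u.1 u.2 F x)
    refine ⟨fromSum j η F z, sub_eq_zero.1 (stalkEv_jointly_injective j F _ fun v hv => ?_)⟩
    rw [map_sub, stalkEv_toSh j η F ⟨v, hv⟩ z, map_sum, sub_eq_zero]
    rw [Finset.sum_eq_single (⟨v, hv⟩ : Pts j η)]
    · refine (ConcreteCategory.congr_hom (ι_component j η F ⟨v, hv⟩ ⟨v, hv⟩) _).trans ?_
      rw [dif_pos rfl]
      rfl
    · intro u _ hu
      refine (ConcreteCategory.congr_hom (ι_component j η F ⟨v, hv⟩ u) _).trans ?_
      rw [dif_neg hu]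
      rfl
    · intro h
      rw [Set.Finite.mem_toFinset] at h
      refine (congrArg (fun y => component j η F ⟨v, hv⟩ (Sigma.ι
        (fun u : Pts j η => (EtCoh.stalk u.1).obj F) ⟨v, hv⟩ y)) (not_not.1 h)).trans ?_
      rw [map_zero, map_zero]

omit η in
theorem isIso_toSh : IsIso (toSh j) :=
  have : ∀ F, IsIso ((toSh j).app F) := fun F =>
    isIso_of_stalksAC _ fun Ω _ _ η => bijective_stalk_toSh j η F
  NatIso.isIso_of_isIso_app _

omit η in
theorem nonempty_extZero_iso : Nonempty (extZero j ≅ lowerShriek j) :=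
  have := isIso_toSh j
  ⟨asIso (toSh j) ≪≫ (lowerShriekIso j).symm⟩

end GrothLib.EtShriek
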