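import Groth.Agent.Lib.EtShriek.Comp
import Groth.Agent.Lib.EtShriek.ExtZero

/-!
# The composition isomorphism for direct images with proper support
-/

set_option autoImplicit false
set_option backward.isDefEq.respectTransparency false
universe u

open CategoryTheory CategoryTheory.Limits AlgebraicGeometry Opposite
open EtShriek GrothLib.EtSite

noncomputable section

namespace GrothLib.EtShriek

variable {X Y Z : Scheme.{u}}

theorem mono_of_injective {A B : EtCoh.Ab Y} (a : A ⟶ B)
    (h : ∀ V : Y.Etale, Function.Injective (a.hom.app (op V))) : Mono a := by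
  have : Sheaf.IsLocallyInjective a :=
    Sheaf.isLocallyInjective_iff_injective a |>.2 fun U => h U.unop
  exact Sheaf.mono_of_isLocallyInjective a

/-- A morphism of sheaves factors through an injective one if its sections do. -/
theorem exists_lift_of_range {A B C : EtCoh.Ab Y} (a : A ⟶ C) (b : B ⟶ C)
    (hb : ∀ V : Y.Etale, Function.Injective (b.hom.app (op V)))
    (h : ∀ (V : Y.Etale) (x : EtCoh.sect A V), ∃ y : EtCoh.sect B V,
      b.hom.app (op V) y = a.hom.app (op V) x) :
    ∃ φ : A ⟶ B, φ ≫ b = a := by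
  choose l hl using h
  refine ⟨⟨{
    app := fun V => AddCommGrpCat.ofHom (AddMonoidHom.mk' (l V.unop) fun x y =>
      hb V.unop (by rw [map_add]; exact (hl _ _).trans ((map_add _ x y).trans (by rw [hl, hl]))))
    naturality := fun V W k => by
      ext x
      refine hb W.unop ?_
      refine (hl _ _).trans ((NatTrans.naturality_apply a.hom k x).trans ?_)
      refine (congrArg (C.obj.map k) (hl V.unop x).symm).trans ?_
      exact (NatTrans.naturality_apply b.hom k (l V.unop x)).symm }⟩, ?_⟩
  apply Sheaf.hom_ext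
  ext V x
  exact hl _ _

/-- Two subobjects of a sheaf with the same sections are isomorphic. -/
def isoOfRange {A B C : EtCoh.Ab Y} (a : A ⟶ C) (b : B ⟶ C)
    (ha : ∀ V : Y.Etale, Function.Injective (a.hom.app (op V)))
    (hb : ∀ V : Y.Etale, Function.Injective (b.hom.app (op V)))
    (h₁ : ∀ (V : Y.Etale) (x : EtCoh.sect A V), ∃ y : EtCoh.sect B V,
      b.hom.app (op V) y = a.hom.app (op V) x)
    (h₂ : ∀ (V : Y.Etale) (x : EtCoh.sect B V), ∃ y : EtCoh.sect A V,
      a.hom.app (op V) y = b.hom.app (op V) x) : A ≅ B where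
  hom := (exists_lift_of_range a b hb h₁).choose
  inv := (exists_lift_of_range b a ha h₂).choose
  hom_inv_id := by
    have := mono_of_injective a ha
    rw [← cancel_mono a, Category.assoc, (exists_lift_of_range b a ha h₂).choose_spec,
      (exists_lift_of_range a b hb h₁).choose_spec, Category.id_comp]
  inv_hom_id := by
    have := mono_of_injective b hb
    rw [← cancel_mono b, Category.assoc, (exists_lift_of_range a b hb h₁).choose_spec,
      (exists_lift_of_range b a ha h₂).choose_spec, Category.id_comp]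

theorem isoOfRange_hom {A B C : EtCoh.Ab Y} (a : A ⟶ C) (b : B ⟶ C) (ha hb h₁ h₂) :
    (isoOfRange a b ha hb h₁ h₂).hom ≫ b = a :=
  (exists_lift_of_range a b hb h₁).choose_spec

variable (h : X ⟶ Y) (g : Y ⟶ Z) [IsSeparated g] [LocallyOfFiniteType h] [LocallyOfFiniteType g]

/-- The composition isomorphism on one sheaf. -/
def compIsoApp (F : EtCoh.Ab X) : (Sh (h ≫ g)).obj F ≅ (Sh h ⋙ Sh g).obj F :=
  isoOfRange ((ι (h ≫ g)).app F) ((ιComp h g).app F) (injective_ι_app (h ≫ g) F)
    (injective_ιComp h g F)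
    (fun V x => (mem_range_ιComp_iff h g F V _).2 ((mem_range_ι_iff (h ≫ g) F V _).1 ⟨x, rfl⟩))
    (fun V x => (mem_range_ι_iff (h ≫ g) F V _).2 ((mem_range_ιComp_iff h g F V _).1 ⟨x, rfl⟩))

/-- Direct images with proper support compose. -/
def compIso : Sh (h ≫ g) ≅ Sh h ⋙ Sh g :=
  NatIso.ofComponents (compIsoApp h g) fun {F G} a => by
    have := mono_of_injective ((ιComp h g).app G) (injective_ιComp h g G)
    rw [← cancel_mono ((ιComp h g).app G), Category.assoc, Category.assoc, (ιComp h g).naturality,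
      compIsoApp, isoOfRange_hom, compIsoApp, ← Category.assoc, isoOfRange_hom, (ι (h ≫ g)).naturality]

theorem compIso_ι (F : EtCoh.Ab X) :
    (compIso h g).hom.app F ≫ (ιComp h g).app F = (ι (h ≫ g)).app F :=
  isoOfRange_hom ((ι (h ≫ g)).app F) ((ιComp h g).app F) (injective_ι_app (h ≫ g) F)
    (injective_ιComp h g F)
    (fun V x => (mem_range_ιComp_iff h g F V _).2 ((mem_range_ι_iff (h ≫ g) F V _).1 ⟨x, rfl⟩))
    (fun V x => (mem_range_ι_iff (h ≫ g) F V _).2 ((mem_range_ιComp_iff h g F V _).1 ⟨x, rfl⟩))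

/-- The composition isomorphism for the sheafified functors. -/
def lowerShriekComp : lowerShriek (h ≫ g) ≅ lowerShriek h ⋙ lowerShriek g :=
  lowerShriekIso (h ≫ g) ≪≫ compIso h g ≪≫
    (Functor.isoWhiskerRight (lowerShriekIso h).symm _) ≪≫
    Functor.isoWhiskerLeft (lowerShriek h) (lowerShriekIso g).symm

theorem comp_toPush_eq (F : EtCoh.Ab X) :
    (lowerShriek g).map (lowerShriekToPush h F) ≫ lowerShriekToPush g ((EtCoh.push h).obj F) =
      ((lowerShriekIso g).hom.app _ ≫ (Sh g).map ((lowerShriekIso h).hom.app F)) ≫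
        (ι g).app ((Sh h).obj F) ≫ (EtCoh.push g).map ((ι h).app F) := by
  rw [lowerShriekToPush_eq g, (lowerShriekIso g).hom.naturality_assoc, lowerShriekToPush_eq h,
    Functor.map_comp]
  simp only [Category.assoc]
  rw [(ι g).naturality]

theorem lowerShriekComp_compat (F : EtCoh.Ab X) :
    (lowerShriekComp h g).hom.app F ≫ (lowerShriek g).map (lowerShriekToPush h F) ≫
        lowerShriekToPush g ((EtCoh.push h).obj F) =
      lowerShriekToPush (h ≫ g) F ≫ (EtCoh.pushComp g h).inv.app F := by
  rw [comp_toPush_eq, lowerShriekToPush_eq, ← compIso_ι, lowerShriekComp]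
  simp only [Iso.trans_hom, NatTrans.comp_app, Functor.isoWhiskerRight_hom, Iso.symm_hom,
    Functor.whiskerRight_app, Functor.isoWhiskerLeft_hom, Functor.whiskerLeft_app, Category.assoc]
  congr 2
  rw [Iso.inv_hom_id_app_assoc, ← Functor.map_comp_assoc, Iso.inv_hom_id_app,
    CategoryTheory.Functor.map_id, Category.id_comp]
  dsimp only [ιComp]
  simp only [Category.assoc, Iso.hom_inv_id_app, Category.comp_id]
  exact congrArg (_ ≫ ·) (Category.comp_id _).symm

theorem existsUnique_comp :
    ∃! φ : lowerShriek (h ≫ g) ≅ lowerShriek h ⋙ lowerShriek g,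
      ∀ F : EtCoh.Ab X,
        φ.hom.app F ≫ (lowerShriek g).map (lowerShriekToPush h F) ≫
            lowerShriekToPush g ((EtCoh.push h).obj F) =
          lowerShriekToPush (h ≫ g) F ≫ (EtCoh.pushComp g h).inv.app F := by
  refine ⟨lowerShriekComp h g, lowerShriekComp_compat h g, fun φ hφ => ?_⟩
  ext F : 3
  have := mono_of_injective ((ιComp h g).app F) (injective_ιComp h g F)
  have : Mono ((lowerShriek g).map (lowerShriekToPush h F) ≫
      lowerShriekToPush g ((EtCoh.push h).obj F)) := by
    rw [comp_toPush_eq]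
    have : Mono ((ι g).app ((Sh h).obj F) ≫ (EtCoh.push g).map ((ι h).app F)) := by
      have : Mono (((ι g).app ((Sh h).obj F) ≫ (EtCoh.push g).map ((ι h).app F)) ≫
          (EtCoh.pushComp g h).hom.app F) := by
        rw [Category.assoc]
        exact this
      exact mono_of_mono _ ((EtCoh.pushComp g h).hom.app F)
    exact mono_comp _ _
  rw [← cancel_mono ((lowerShriek g).map (lowerShriekToPush h F) ≫
      lowerShriekToPush g ((EtCoh.push h).obj F)), hφ F, lowerShriekComp_compat]

/-- For proper morphisms direct image with proper support is direct image. -/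
theorem isIso_ι_of_isProper (f : X ⟶ Y) [IsProper f] : IsIso (ι f) := by
  have : ∀ F, IsIso ((ι f).app F) := fun F => by
    have hp : ∀ (V : Y.Etale) (x : EtCoh.sect ((EtCoh.push f).obj F) V), ∃ y,
        ((ι f).app F).hom.app (op V) y = (𝟙 ((EtCoh.push f).obj F) : _ ⟶ _).hom.app (op V) x :=
      fun V x => (mem_range_ι_iff f F V x).2 ⟨isClosed_sectSupp F _ _, by
        have : IsProper (prV f V) := MorphismProperty.pullback_fst _ _ inferInstance
        infer_instance⟩
    let e := isoOfRange ((ι f).app F) (𝟙 _) (injective_ι_app f F) (fun V => Function.injective_id)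
      (fun V x => ⟨_, rfl⟩) hp
    have he : e.hom ≫ 𝟙 _ = (ι f).app F := isoOfRange_hom _ _ _ _ _ _
    rw [← he, Category.comp_id]
    infer_instance
  exact NatIso.isIso_of_isIso_app _

theorem nonempty_compactification {Xb : Scheme.{u}} (j : X ⟶ Xb) [IsOpenImmersion j]
    (fb : Xb ⟶ Y) [IsProper fb] [JCont j] :
    Nonempty (lowerShriek (j ≫ fb) ≅ extZero j ⋙ EtCoh.push fb) :=
  have := isIso_toSh j
  have := isIso_ι_of_isProper fb
  ⟨lowerShriekIso (j ≫ fb) ≪≫ compIso j fb ≪≫ Functor.isoWhiskerRight (asIso (toSh j)).symm _ ≪≫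
    Functor.isoWhiskerLeft (extZero j) (asIso (ι fb))⟩

end GrothLib.EtShriek
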