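import Groth.Agent.Lib.EtShriek.BC
import Groth.Agent.Lib.EtShriek.Stalk
import Groth.Agent.Lib.EtShriek.CompIso
import Groth.Agent.Lib.PropH0.PropBC

/-!
# Base change for direct images with proper support along compactifiable morphisms
-/

set_option autoImplicit false
set_option backward.isDefEq.respectTransparency false
universe u

open CategoryTheory CategoryTheory.Limits AlgebraicGeometry Opposite
open EtShriek GrothLib.EtSite

noncomputable section

namespace GrothLib.EtShriek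

variable {X Y X' Y' : Scheme.{u}} (f : X ⟶ Y) (g : Y' ⟶ Y) (f' : X' ⟶ Y') (g' : X' ⟶ X)
  (h : IsPullback g' f' f g) [LocallyOfFiniteType f] [LocallyOfFiniteType f']

variable {Ω : Type u} [Field Ω] [IsSepClosed Ω] {η' : Spec (CommRingCat.of Ω) ⟶ Y'}
  {η : Spec (CommRingCat.of Ω) ⟶ Y} (hη : η' ≫ g = η) {ξ' : Spec (CommRingCat.of Ω) ⟶ X'}
  (hξ' : ξ' ≫ f' = η') {ξ : Spec (CommRingCat.of Ω) ⟶ X} (hξg : ξ' ≫ g' = ξ) (hξ : ξ ≫ f = η)

/-- The base change map on germs. -/
theorem stalkEv_bcSh (F : EtCoh.Ab X) {U : Y.Etale} (t : (Scheme.pointSmallEtale η).fiber.obj U)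
    (p : EtCoh.sect ((Sh f).obj F) U) :
    stalkEv f' ξ' hξ' ((EtCoh.pull g').obj F) ((EtCoh.stalk η').map (bcSh f g f' g' h F)
      (germ η' ((EtCoh.pull g).obj ((Sh f).obj F)) (liftPt g t η' hη)
        (((EtCoh.pullPushAdj g).unit.app ((Sh f).obj F)).hom.app (op U) p))) =
      germ ξ' ((EtCoh.pull g').obj F) (liftPt g' (liftPt f t ξ hξ) ξ' hξg)
        (((EtCoh.pullPushAdj g').unit.app F).hom.app (op ((EtCoh.bc f).obj U))
          (((ι f).app F).hom.app (op U) p)) := by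
  refine (congrArg (stalkEv f' ξ' hξ' _) (stalk_map_germ η' _ _ _)).trans ?_
  refine (stalkEv_germ f' ξ' hξ' _ _ _).trans ?_
  refine (congrArg (germ ξ' _ _) (bcSh_unit f g f' g' h F U p)).trans ?_
  rw [βsec, germ_map, map_bcθ_liftPt f g f' g' h.w hη hξ' hξg hξ t]

omit hη hξ' hξg hξ in
/-- For separated locally quasi-finite morphisms the base change map is bijective on stalks. -/
theorem bijective_stalk_bcSh_lqf [IsSeparated f] [LocallyQuasiFinite f] [IsSeparated f']
    [LocallyQuasiFinite f'] {Ω : Type u} [Field Ω] [IsAlgClosed Ω]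
    (η' : Spec (CommRingCat.of Ω) ⟶ Y') (F : EtCoh.Ab X) :
    Function.Bijective ((EtCoh.stalk η').map (bcSh f g f' g' h F)) := by
  classical
  refine ⟨injective_stalk_bcSh f g f' g' h η' F, fun y => ?_⟩
  let G' := (EtCoh.pull g').obj F
  let S := (finite_support f' G' y).toFinset
  have hξ : ∀ v : {v : Spec (CommRingCat.of Ω) ⟶ X' // v ≫ f' = η'}, (v.1 ≫ g') ≫ f = η' ≫ g :=
    fun v => by rw [Category.assoc, h.w, ← Category.assoc, v.2]
  choose W w s hs using fun v : {v : Spec (CommRingCat.of Ω) ⟶ X' // v ≫ f' = η'} =>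
    exists_unit_germ (g' := g') (rfl : v.1 ≫ g' = v.1 ≫ g') F (stalkEv f' v.1 v.2 G' y)
  choose δ hδ₁ hδ₂ using fun v : {v : Spec (CommRingCat.of Ω) ⟶ X' // v ≫ f' = η'} =>
    exists_delta f F (v.1 ≫ g') (hξ v) (germ (v.1 ≫ g') F (w v) (s v))
  obtain ⟨U, t, p, hp⟩ := exists_germ (η' ≫ g) _ (∑ v ∈ S, δ v)
  refine ⟨germ η' _ (liftPt g t η' rfl)
    (((EtCoh.pullPushAdj g).unit.app ((Sh f).obj F)).hom.app (op U) p), ?_⟩
  refine sub_eq_zero.1 (stalkEv_jointly_injective f' G' _ fun v hv => ?_)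
  rw [map_sub, sub_eq_zero]
  refine (stalkEv_bcSh f g f' g' h rfl hv rfl (hξ ⟨v, hv⟩) F t p).trans ?_
  have hu := germ_unit v g' F (liftPt f t (v ≫ g') (hξ ⟨v, hv⟩)) (((ι f).app F).hom.app (op U) p)
  rw [fiberBcIso_inv_eq_liftPt] at hu
  refine hu.trans ?_
  rw [← stalkEv_germ f (v ≫ g') (hξ ⟨v, hv⟩) F t p, hp, map_sum, Finset.sum_eq_single
    (⟨v, hv⟩ : {v : Spec (CommRingCat.of Ω) ⟶ X' // v ≫ f' = η'})]
  · rw [hδ₁ ⟨v, hv⟩, ← germ_unit v g' F (w ⟨v, hv⟩) (s ⟨v, hv⟩), fiberBcIso_inv_eq_liftPt]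
    exact hs ⟨v, hv⟩
  · intro u _ hu'
    refine hδ₂ u (v ≫ g') (hξ ⟨v, hv⟩) fun e => hu' (Subtype.ext ?_)
    exact h.hom_ext e.symm (u.2.trans hv.symm)
  · intro hnot
    rw [Set.Finite.mem_toFinset, Set.mem_setOf_eq, not_not] at hnot
    rw [hδ₁ ⟨v, hv⟩]
    have e := germ_unit v g' F (w ⟨v, hv⟩) (s ⟨v, hv⟩)
    rw [fiberBcIso_inv_eq_liftPt] at e
    exact (map_eq_zero_iff _ (ConcreteCategory.bijective_of_isIso ((pullStalkIso v g').inv.app F)).injective).1
      (e.symm.trans ((hs ⟨v, hv⟩).trans hnot))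

omit hη hξ' hξg hξ in
theorem isIso_bcSh_lqf [IsSeparated f] [LocallyQuasiFinite f] [IsSeparated f']
    [LocallyQuasiFinite f'] (F : EtCoh.Ab X) : IsIso (bcSh f g f' g' h F) :=
  isIso_of_stalksAC _ fun Ω _ _ η' => bijective_stalk_bcSh_lqf f g f' g' h η' F

omit hη hξ' hξg hξ in
theorem isIso_bcSh_proper [IsProper f] [IsProper f'] (F : EtCoh.Ab X) :
    IsIso (bcSh f g f' g' h F) := by
  have := isIso_ι_of_isProper f
  have := isIso_ι_of_isProper f'
  have := GrothLib.PropH0.isIso_baseChange0_of_proper f g f' g' h F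
  have : IsIso (bcSh f g f' g' h F ≫ (ι f').app ((EtCoh.pull g').obj F)) := by
    rw [bcSh_ι]
    infer_instance
  exact IsIso.of_isIso_comp_right _ ((ι f').app ((EtCoh.pull g').obj F))

section pasting

omit hη hξ' hξg hξ

variable {Z Z' : Scheme.{u}} (j : Z ⟶ X) (j' : Z' ⟶ X') (g'' : Z' ⟶ Z) (hj : IsPullback g'' j' j g')
  [LocallyOfFiniteType j] [LocallyOfFiniteType j']

theorem bc_hom_ext (U : Y.Etale) {S : Z'.Etale}
    (a b : S ⟶ (EtCoh.bc g'').obj ((EtCoh.bc j).obj ((EtCoh.bc f).obj U)))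
    (e : a.left ≫ pullback.fst ((EtCoh.bc j).obj ((EtCoh.bc f).obj U)).hom g'' ≫
        prV j ((EtCoh.bc f).obj U) ≫ prV f U =
      b.left ≫ pullback.fst ((EtCoh.bc j).obj ((EtCoh.bc f).obj U)).hom g'' ≫
        prV j ((EtCoh.bc f).obj U) ≫ prV f U) : a = b := by
  let B := (EtCoh.bc j).obj ((EtCoh.bc f).obj U)
  have h0 : a.left ≫ pullback.snd B.hom g'' = b.left ≫ pullback.snd B.hom g'' :=
    (MorphismProperty.Over.w a).trans (MorphismProperty.Over.w b).symm
  have h1 : (a.left ≫ pullback.fst B.hom g'') ≫ B.hom = (b.left ≫ pullback.fst B.hom g'') ≫ B.hom := by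
    rw [Category.assoc, Category.assoc, pullback.condition, ← Category.assoc, ← Category.assoc, h0]
  refine MorphismProperty.Over.Hom.ext (pullback.hom_ext ?_ h0)
  refine pullback.hom_ext ?_ h1
  refine pullback.hom_ext (by simpa only [Category.assoc] using e) ?_
  have e2 : prV j ((EtCoh.bc f).obj U) ≫ pullback.snd U.hom f = B.hom ≫ j := pullback.condition
  simp only [Category.assoc] at h1 ⊢
  rw [e2, reassoc_of% h1]

variable [IsSeparated f] [IsSeparated f']

include hj in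
/-- Base change maps compose. -/
theorem bcSh_comp (G : EtCoh.Ab Z) :
    bcSh (j ≫ f) g (j' ≫ f') g'' (hj.paste_vert h) G ≫ (compIso j' f').hom.app ((EtCoh.pull g'').obj G) =
      (EtCoh.pull g).map ((compIso j f).hom.app G) ≫ bcSh f g f' g' h ((Sh j).obj G) ≫
        (Sh f').map (bcSh j g' j' g'' hj G) := by
  apply ((EtCoh.pullPushAdj g).homEquiv _ _).injective
  apply Sheaf.hom_ext
  ext V p
  obtain ⟨U⟩ := V
  rw [Adjunction.homEquiv_unit, Adjunction.homEquiv_unit]
  refine injective_ιComp j' f' ((EtCoh.pull g'').obj G) _ ?_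
  let B := (EtCoh.bc g).obj U
  let upc := ((EtCoh.pullPushAdj g).unit.app ((Sh (j ≫ f)).obj G)).hom.app (op U) p
  have hL : ((ιComp j' f').app ((EtCoh.pull g'').obj G)).hom.app (op B)
      (((compIso j' f').hom.app ((EtCoh.pull g'').obj G)).hom.app (op B)
        ((bcSh (j ≫ f) g (j' ≫ f') g'' (hj.paste_vert h) G).hom.app (op B) upc)) =
      βsec (j ≫ f) g (j' ≫ f') g'' (hj.paste_vert h).w G U (((ι (j ≫ f)).app G).hom.app (op U) p) := by
    rw [← bcSh_unit (j ≫ f) g (j' ≫ f') g'' (hj.paste_vert h) G U p]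
    exact congrArg (fun k : (Sh (j' ≫ f')).obj ((EtCoh.pull g'').obj G) ⟶ _ => k.hom.app (op B)
      ((bcSh (j ≫ f) g (j' ≫ f') g'' (hj.paste_vert h) G).hom.app (op B) upc))
      (compIso_ι j' f' ((EtCoh.pull g'').obj G))
  let q := ((compIso j f).hom.app G).hom.app (op U) p
  let q₁ := ((ι f).app ((Sh j).obj G)).hom.app (op U) q
  let s₂ := ((ι j).app G).hom.app (op ((EtCoh.bc f).obj U)) q₁
  have hq : ((ι (j ≫ f)).app G).hom.app (op U) p = G.obj.map (bcComp j f U).hom.op s₂ := by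
    rw [← compIso_ι]
    exact ιComp_apply j f G U q
  have hR : ((ιComp j' f').app ((EtCoh.pull g'').obj G)).hom.app (op B)
      (((Sh f').map (bcSh j g' j' g'' hj G)).hom.app (op B)
        ((bcSh f g f' g' h ((Sh j).obj G)).hom.app (op B)
          (((EtCoh.pull g).map ((compIso j f).hom.app G)).hom.app (op B) upc))) =
      ((EtCoh.pull g'').obj G).obj.map ((bcComp j' f' B).hom ≫
          (EtCoh.bc j').map (bcθ f g f' g' h.w U) ≫ bcθ j g' j' g'' hj.w ((EtCoh.bc f).obj U)).op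
        (((EtCoh.pullPushAdj g'').unit.app G).hom.app (op ((EtCoh.bc j).obj ((EtCoh.bc f).obj U))) s₂) := by
    have e0 : ((EtCoh.pull g).map ((compIso j f).hom.app G)).hom.app (op B) upc =
        ((EtCoh.pullPushAdj g).unit.app ((Sh f).obj ((Sh j).obj G))).hom.app (op U) q :=
      (congrArg (fun k : (Sh (j ≫ f)).obj G ⟶ _ => k.hom.app (op U) p)
        ((EtCoh.pullPushAdj g).unit.naturality ((compIso j f).hom.app G))).symm
    rw [e0, ιComp_apply, Sh_map_app]
    refine (congrArg (fun z => ((EtCoh.pull g'').obj G).obj.map (bcComp j' f' B).hom.op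
      (((ι j').app ((EtCoh.pull g'').obj G)).hom.app _
        ((bcSh j g' j' g'' hj G).hom.app _ z))) (bcSh_unit f g f' g' h ((Sh j).obj G) U q)).trans ?_
    rw [op_comp, Functor.map_comp, ConcreteCategory.comp_apply, op_comp, Functor.map_comp,
      ConcreteCategory.comp_apply]
    refine congrArg (((EtCoh.pull g'').obj G).obj.map (bcComp j' f' B).hom.op) ?_
    refine (congrArg (((ι j').app ((EtCoh.pull g'').obj G)).hom.app _)
      (NatTrans.naturality_apply (bcSh j g' j' g'' hj G).hom (bcθ f g f' g' h.w U).op _)).trans ?_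
    refine (NatTrans.naturality_apply ((ι j').app ((EtCoh.pull g'').obj G)).hom
      (bcθ f g f' g' h.w U).op _).trans ?_
    exact congrArg (((EtCoh.pull g'').obj G).obj.map ((EtCoh.bc j').map (bcθ f g f' g' h.w U)).op)
      (bcSh_unit j g' j' g'' hj G ((EtCoh.bc f).obj U) q₁)
  refine hL.trans (Eq.trans ?_ hR.symm)
  rw [hq, βsec]
  refine (congrArg (((EtCoh.pull g'').obj G).obj.map _)
    (NatTrans.naturality_apply ((EtCoh.pullPushAdj g'').unit.app G).hom (bcComp j f U).hom.op s₂)).trans ?_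
  refine Eq.trans ?_ (congrArg (fun k => ((EtCoh.pull g'').obj G).obj.map k.op
    (((EtCoh.pullPushAdj g'').unit.app G).hom.app (op ((EtCoh.bc j).obj ((EtCoh.bc f).obj U))) s₂))
    (bc_hom_ext f j g'' U (bcθ (j ≫ f) g (j' ≫ f') g'' (hj.paste_vert h).w U ≫
      (EtCoh.bc g'').map (bcComp j f U).hom) _ ?_))
  · rw [op_comp, Functor.map_comp, ConcreteCategory.comp_apply]
    rfl
  · have a1 := bcθ_left_fst_fst (j ≫ f) g (j' ≫ f') g'' (hj.paste_vert h).w U
    have a2 := bcθ_left_fst_fst j g' j' g'' hj.w ((EtCoh.bc f).obj U)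
    have a3 := bcθ_left_fst_fst f g f' g' h.w U
    have b1 := (EtCoh.isPullback_bc_map g'' (bcComp j f U).hom).w
    have b2 := (EtCoh.isPullback_bc_map j' (bcθ f g f' g' h.w U)).w
    have c1 := bcComp_fst j f U
    have c2 := bcComp_fst j' f' B
    let θc := (bcθ (j ≫ f) g (j' ≫ f') g'' (hj.paste_vert h).w U).left
    change (θc ≫ ((EtCoh.bc g'').map (bcComp j f U).hom).left) ≫ _ = ((bcComp j' f' B).hom.left ≫
      ((EtCoh.bc j').map (bcθ f g f' g' h.w U)).left ≫
        (bcθ j g' j' g'' hj.w ((EtCoh.bc f).obj U)).left) ≫ _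
    simp only [Category.assoc]
    rw [reassoc_of% b1, c1, a1, reassoc_of% a2, reassoc_of% b2, a3, reassoc_of% c2]

include hj in
/-- Base change for a composite. -/
theorem isIso_bcSh_comp (G : EtCoh.Ab Z) (h1 : IsIso (bcSh j g' j' g'' hj G))
    (h2 : IsIso (bcSh f g f' g' h ((Sh j).obj G))) :
    IsIso (bcSh (j ≫ f) g (j' ≫ f') g'' (hj.paste_vert h) G) := by
  have : IsIso (bcSh (j ≫ f) g (j' ≫ f') g'' (hj.paste_vert h) G ≫
      (compIso j' f').hom.app ((EtCoh.pull g'').obj G)) := by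
    rw [bcSh_comp f g f' g' h j j' g'' hj G]
    infer_instance
  exact IsIso.of_isIso_comp_right _ ((compIso j' f').hom.app ((EtCoh.pull g'').obj G))

include hj in
/-- Base change for the first factor of a composite. -/
theorem isIso_bcSh_of_comp (G : EtCoh.Ab Z) (h1 : IsIso (bcSh j g' j' g'' hj G))
    (h2 : IsIso (bcSh (j ≫ f) g (j' ≫ f') g'' (hj.paste_vert h) G)) :
    IsIso (bcSh f g f' g' h ((Sh j).obj G)) := by
  have : IsIso (bcSh f g f' g' h ((Sh j).obj G) ≫ (Sh f').map (bcSh j g' j' g'' hj G)) := by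
    have : IsIso ((EtCoh.pull g).map ((compIso j f).hom.app G) ≫ bcSh f g f' g' h ((Sh j).obj G) ≫
        (Sh f').map (bcSh j g' j' g'' hj G)) := by
      rw [← bcSh_comp f g f' g' h j j' g'' hj G]
      infer_instance
    exact IsIso.of_isIso_comp_left ((EtCoh.pull g).map ((compIso j f).hom.app G)) _
  exact IsIso.of_isIso_comp_right _ ((Sh f').map (bcSh j g' j' g'' hj G))

end pasting

end GrothLib.EtShriek
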