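import Groth.Agent.Lib.EtShriek.Points
import Groth.Agent.Lib.EtSite.BCPoint
import Groth.Agent.Lib.EtSite.BaseChange

/-!
# The base change map for direct images with proper support
-/

set_option autoImplicit false
set_option backward.isDefEq.respectTransparency false
universe u

open CategoryTheory CategoryTheory.Limits AlgebraicGeometry Opposite
open EtShriek GrothLib.EtSite

noncomputable section

namespace GrothLib.EtShriek

variable {X Y X' Y' : Scheme.{u}}

/-- Supports of pulled back sections. -/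
theorem sectSupp_unit (g : X' ⟶ X) (F : EtCoh.Ab X) (W : X.Etale) (s : EtCoh.sect F W) :
    sectSupp ((EtCoh.pull g).obj F) ((EtCoh.bc g).obj W)
        (((EtCoh.pullPushAdj g).unit.app F).hom.app (op W) s) =
      (pullback.fst W.hom g : ((EtCoh.bc g).obj W).left ⟶ W.left).base ⁻¹' sectSupp F W s := by
  ext x
  obtain ⟨t', ht'⟩ := exists_fib (gpt (((EtCoh.bc g).obj W).hom.base x)) (U := (EtCoh.bc g).obj W) x
    (gpt_default _).symm
  obtain ⟨t, ht⟩ := exists_fib_bc _ g W t'
  subst ht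
  have hpt : t.left.base (default : Spec (CommRingCat.of _)) =
      (pullback.fst W.hom g : ((EtCoh.bc g).obj W).left ⟶ W.left).base x := by
    refine Eq.trans ?_ (congrArg (pullback.fst W.hom g : ((EtCoh.bc g).obj W).left ⟶ W.left).base ht')
    rw [fiberBcIso_inv_eq_liftPt]
    refine Eq.trans ?_ (Scheme.Hom.comp_apply (liftPt g t _ rfl).left
      (pullback.fst W.hom g : ((EtCoh.bc g).obj W).left ⟶ W.left) (default : Spec (CommRingCat.of _)))
    exact congrArg (fun m : Spec (CommRingCat.of _) ⟶ W.left => m.base default) (pullback.lift_fst _ _ _).symm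
  rw [Set.mem_preimage, ← hpt]
  refine Iff.trans ?_ (GrothLib.EtBasicB.germ_ne_zero_iff _ F t s)
  refine Iff.trans (iff_of_eq (congrArg (· ∈ sectSupp _ ((EtCoh.bc g).obj W) _) ht'.symm)) ?_
  refine (GrothLib.EtBasicB.germ_ne_zero_iff _ _ _ _).symm.trans ?_
  rw [germ_unit]
  exact (map_ne_zero_iff _ (ConcreteCategory.bijective_of_isIso
    ((pullStalkIso _ g).inv.app F)).injective)

variable (f : X ⟶ Y) (g : Y' ⟶ Y) (f' : X' ⟶ Y') (g' : X' ⟶ X) (h : IsPullback g' f' f g)

/-- The projection `(U ×_Y Y') ×_Y' X' ⟶ U ×_Y X`. -/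
def bcπ (w : g' ≫ f = f' ≫ g) (U : Y.Etale) :
    ((EtCoh.bc f').obj ((EtCoh.bc g).obj U)).left ⟶ ((EtCoh.bc f).obj U).left :=
  (bcθ f g f' g' w U).left ≫ pullback.fst ((EtCoh.bc f).obj U).hom g'

include h in
theorem isPullback_bcπ (U : Y.Etale) :
    IsPullback (bcπ f g f' g' h.w U) (prV f' ((EtCoh.bc g).obj U)) (prV f U)
      (pullback.fst U.hom g : ((EtCoh.bc g).obj U).left ⟶ U.left) := by
  let B := (EtCoh.bc g).obj U
  have e1 : bcπ f g f' g' h.w U ≫ pullback.snd U.hom f = pullback.snd B.hom f' ≫ g' := by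
    change ((bcθ f g f' g' h.w U).left ≫ pullback.fst ((EtCoh.bc f).obj U).hom g') ≫
      ((EtCoh.bc f).obj U).hom = _
    rw [Category.assoc, pullback.condition, ← Category.assoc]
    exact congrArg (· ≫ g') (Over.w (bcθ f g f' g' h.w U).hom)
  have e2 : (pullback.fst U.hom g : B.left ⟶ U.left) ≫ U.hom = B.hom ≫ g := pullback.condition
  refine IsPullback.of_right (h₁₂ := pullback.snd U.hom f) (v₁₃ := f) (h₂₂ := U.hom) ?_ ?_
    (IsPullback.of_hasPullback U.hom f).flip
  · rw [e1, e2]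
    exact (IsPullback.of_hasPullback B.hom f').flip.paste_horiz h
  · exact (Category.assoc _ _ _).trans (bcθ_left_fst_fst f g f' g' h.w U)

/-- The pullback of a section of `f_* F`. -/
def βsec (w : g' ≫ f = f' ≫ g) (F : EtCoh.Ab X) (U : Y.Etale)
    (s : EtCoh.sect F ((EtCoh.bc f).obj U)) :
    EtCoh.sect ((EtCoh.pull g').obj F) ((EtCoh.bc f').obj ((EtCoh.bc g).obj U)) :=
  ((EtCoh.pull g').obj F).obj.map (bcθ f g f' g' w U).op
    (((EtCoh.pullPushAdj g').unit.app F).hom.app (op ((EtCoh.bc f).obj U)) s)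

theorem sectSupp_βsec (w : g' ≫ f = f' ≫ g) (F : EtCoh.Ab X) (U : Y.Etale)
    (s : EtCoh.sect F ((EtCoh.bc f).obj U)) :
    sectSupp ((EtCoh.pull g').obj F) _ (βsec f g f' g' w F U s) =
      (bcπ f g f' g' w U).base ⁻¹' sectSupp F _ s := by
  rw [βsec, sectSupp_map, sectSupp_unit, bcπ, Scheme.Hom.comp_base, TopCat.coe_comp,
    Set.preimage_comp]
  rfl

theorem unit_baseChange0_app (w : g' ≫ f = f' ≫ g) (F : EtCoh.Ab X) (U : Y.Etale)
    (s : EtCoh.sect F ((EtCoh.bc f).obj U)) :
    ((EtCoh.pullPushAdj g).homEquiv _ _ (EtCoh.baseChange0 f g f' g' w F)).hom.app (op U) s =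
      βsec f g f' g' w F U s := by
  rw [Adjunction.homEquiv_unit]
  exact baseChange0_app_unit f g f' g' w F U s

variable [LocallyOfFiniteType f] [LocallyOfFiniteType f']

include h in
theorem exists_bcTranspose (F : EtCoh.Ab X) :
    ∃ b : (Sh f).obj F ⟶ (EtCoh.push g).obj ((Sh f').obj ((EtCoh.pull g').obj F)),
      b ≫ (EtCoh.push g).map ((ι f').app ((EtCoh.pull g').obj F)) =
        (ι f).app F ≫ (EtCoh.pullPushAdj g).homEquiv _ _ (EtCoh.baseChange0 f g f' g' h.w F) := by
  let G' := (EtCoh.pull g').obj F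
  let a := (ι f).app F ≫ (EtCoh.pullPushAdj g).homEquiv _ _ (EtCoh.baseChange0 f g f' g' h.w F)
  have hmem : ∀ (U : Y.Etale) (p : EtCoh.sect ((Sh f).obj F) U),
      ∃ q : EtCoh.sect ((Sh f').obj G') ((EtCoh.bc g).obj U),
        ((ι f').app G').hom.app (op ((EtCoh.bc g).obj U)) q = a.hom.app (op U) p := by
    intro U p
    refine (mem_range_ι_iff f' G' _ _).2 ?_
    have e : a.hom.app (op U) p = βsec f g f' g' h.w F U (((ι f).app F).hom.app (op U) p) :=
      unit_baseChange0_app f g f' g' h.w F U _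
    rw [e, sectSupp_βsec]
    exact GrothLib.ProperOver.isProperOver_preimage_of_isPullback (prV f U) _ _ _
      (isPullback_bcπ f g f' g' h U) ((mem_range_ι_iff f F U _).1 ⟨p, rfl⟩)
  choose l hl using hmem
  refine ⟨⟨{
    app := fun U => AddCommGrpCat.ofHom (AddMonoidHom.mk' (l U.unop) fun x y =>
      injective_ι_app f' G' _ ((hl _ _).trans ((map_add (a.hom.app U).hom x y).trans (by
        rw [map_add]; exact (congrArg₂ (· + ·) (hl _ x) (hl _ y)).symm))))
    naturality := fun U W k => by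
      ext x
      refine injective_ι_app f' G' _ ?_
      refine (hl _ _).trans ((NatTrans.naturality_apply a.hom k x).trans ?_)
      refine (congrArg (((EtCoh.push g).obj ((EtCoh.push f').obj G')).obj.map k) (hl U.unop x).symm).trans ?_
      exact (NatTrans.naturality_apply ((EtCoh.push g).map ((ι f').app G')).hom k (l U.unop x)).symm }⟩, ?_⟩
  apply Sheaf.hom_ext
  ext U x
  exact hl _ _

/-- The base change map for direct images with proper support. -/
def bcSh (F : EtCoh.Ab X) :
    (EtCoh.pull g).obj ((Sh f).obj F) ⟶ (Sh f').obj ((EtCoh.pull g').obj F) :=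
  ((EtCoh.pullPushAdj g).homEquiv _ _).symm (exists_bcTranspose f g f' g' h F).choose

theorem bcSh_ι (F : EtCoh.Ab X) :
    bcSh f g f' g' h F ≫ (ι f').app ((EtCoh.pull g').obj F) =
      (EtCoh.pull g).map ((ι f).app F) ≫ EtCoh.baseChange0 f g f' g' h.w F := by
  apply ((EtCoh.pullPushAdj g).homEquiv _ _).injective
  rw [Adjunction.homEquiv_naturality_right, Adjunction.homEquiv_naturality_left, bcSh,
    Equiv.apply_symm_apply]
  exact (exists_bcTranspose f g f' g' h F).choose_spec

/-- The base change map on pulled back sections. -/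
theorem bcSh_unit (F : EtCoh.Ab X) (U : Y.Etale) (p : EtCoh.sect ((Sh f).obj F) U) :
    ((ι f').app ((EtCoh.pull g').obj F)).hom.app (op ((EtCoh.bc g).obj U))
        ((bcSh f g f' g' h F).hom.app (op ((EtCoh.bc g).obj U))
          (((EtCoh.pullPushAdj g).unit.app ((Sh f).obj F)).hom.app (op U) p)) =
      βsec f g f' g' h.w F U (((ι f).app F).hom.app (op U) p) := by
  refine Eq.trans ?_ (unit_baseChange0_app f g f' g' h.w F U _)
  have e1 := congrArg (fun k : (Sh f).obj F ⟶ _ => k.hom.app (op U) p)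
    (exists_bcTranspose f g f' g' h F).choose_spec
  have e2 := congrArg (fun k : (Sh f).obj F ⟶ _ => k.hom.app (op U) p)
    (((EtCoh.pullPushAdj g).homEquiv_unit _ _ (bcSh f g f' g' h F)).symm.trans
      (Equiv.apply_symm_apply _ (exists_bcTranspose f g f' g' h F).choose))
  exact (congrArg (((ι f').app _).hom.app _) e2).trans e1

variable {Ω : Type u} [Field Ω] [IsSepClosed Ω] {Ω₂ : Type u} [Field Ω₂] [IsSepClosed Ω₂]

/-- Transport of a lift along a map of geometric points. -/
abbrev transPt {Y : Scheme.{u}} {η : Spec (CommRingCat.of Ω) ⟶ Y}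
    (σ : Spec (CommRingCat.of Ω₂) ⟶ Spec (CommRingCat.of Ω)) {U : Y.Etale}
    (t : (Scheme.pointSmallEtale η).fiber.obj U) :
    (Scheme.pointSmallEtale (σ ≫ η)).fiber.obj U :=
  fib (σ ≫ η) (U := U) (σ ≫ t.left) ((Category.assoc _ _ _).trans (congrArg (σ ≫ ·) (Over.w t)))

omit f' g' h [LocallyOfFiniteType f'] in
/-- A section with proper support vanishes near `η` if it does at all geometric points over `η`. -/
theorem germ_Sh_eq_zero {η : Spec (CommRingCat.of Ω) ⟶ Y} (F : EtCoh.Ab X) {U : Y.Etale}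
    (t : (Scheme.pointSmallEtale η).fiber.obj U) (p : EtCoh.sect ((Sh f).obj F) U)
    (hz : ∀ (Ω₂ : Type u) [Field Ω₂] [IsSepClosed Ω₂]
      (σ : Spec (CommRingCat.of Ω₂) ⟶ Spec (CommRingCat.of Ω))
      (ξ : Spec (CommRingCat.of Ω₂) ⟶ X) (hξ : ξ ≫ f = σ ≫ η),
      germ ξ F (liftPt f (transPt σ t) ξ hξ) (((ι f).app F).hom.app (op U) p) = 0) :
    germ η ((Sh f).obj F) t p = 0 := by
  let s : EtCoh.sect F ((EtCoh.bc f).obj U) := ((ι f).app F).hom.app (op U) p
  have hZ : ClSub.IsProperOver (prV f U) (sectSupp F _ s) := (mem_range_ι_iff f F U s).1 ⟨p, rfl⟩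
  let r := GrothLib.ProperOver.redι (sectSupp F _ s) hZ.1
  have : IsProper (r ≫ prV f U) := hZ.2
  let t₀ : Spec (CommRingCat.of Ω) ⟶ U.left := t.left
  have hnot : t₀.base default ∉ Set.range (r ≫ prV f U).base := by
    rintro ⟨w, hw⟩
    obtain ⟨q, hq, -⟩ := Scheme.Pullback.exists_preimage_pullback (f := r ≫ prV f U) (g := t₀) w default hw
    let τ : Spec (CommRingCat.of (SeparableClosure ((pullback (r ≫ prV f U) t₀).residueField q))) ⟶
      pullback (r ≫ prV f U) t₀ := gpt q
    let σ := τ ≫ pullback.snd (r ≫ prV f U) t₀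
    let l := (τ ≫ pullback.fst (r ≫ prV f U) t₀) ≫ r
    let ξ : Spec (CommRingCat.of _) ⟶ X := l ≫ pullback.snd U.hom f
    have hl : l ≫ prV f U = σ ≫ t₀ := by
      change ((τ ≫ pullback.fst _ t₀) ≫ r) ≫ prV f U = (τ ≫ pullback.snd _ t₀) ≫ t₀
      simp only [Category.assoc, pullback.condition]
    have hξ : ξ ≫ f = σ ≫ η := by
      refine (Category.assoc _ _ _).trans ((congrArg (l ≫ ·) pullback.condition.symm).trans ?_)
      exact ((Category.assoc _ _ _).symm.trans (congrArg (· ≫ U.hom) hl)).trans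
        ((Category.assoc _ _ _).trans (congrArg (σ ≫ ·) (Over.w t)))
    have e : (liftPt f (transPt σ t) ξ hξ).left = l := pullback.hom_ext
      ((pullback.lift_fst _ _ _).trans hl.symm) (pullback.lift_snd _ _ _)
    refine (GrothLib.EtBasicB.germ_ne_zero_iff ξ F (liftPt f (transPt σ t) ξ hξ) s).2 ?_
      (hz _ σ ξ hξ)
    refine (congrArg (fun m : Spec (CommRingCat.of _) ⟶ ((EtCoh.bc f).obj U).left =>
      m.base default ∈ sectSupp F _ s) e).mpr ?_
    refine (GrothLib.ProperOver.range_redι _ hZ.1).le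
      ⟨(τ ≫ pullback.fst (r ≫ prV f U) t₀).base default, ?_⟩
    rfl
  let W : U.left.Opens := ⟨(Set.range (r ≫ prV f U).base)ᶜ,
    (r ≫ prV f U).isClosedMap.isClosed_range.isOpen_compl⟩
  let e : opensObj U W ⟶ U := opensHom U W
  obtain ⟨t', ht', -⟩ := GrothLib.EtBasicB.exists_fib_lift η e t
    (⟨t₀.base default, hnot⟩ : W) rfl
  rw [← ht', ← germ_map η ((Sh f).obj F) e t' p]
  refine (congrArg (germ η ((Sh f).obj F) t') ?_).trans (map_zero _)
  apply injective_ι_app f F
  rw [map_zero]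
  refine (NatTrans.naturality_apply ((ι f).app F).hom e.op p).trans ?_
  refine section_eq_zero_of_germs F _ _ fun Ω' _ _ ξ' t'' => ?_
  by_contra hne
  have hm := (GrothLib.EtBasicB.germ_ne_zero_iff ξ' F t'' _).1 hne
  change t''.left.base (default : Spec (CommRingCat.of Ω')) ∈
    sectSupp F _ (F.obj.map ((EtCoh.bc f).map e).op s) at hm
  rw [sectSupp_map] at hm
  obtain ⟨w, hw⟩ := (GrothLib.ProperOver.range_redι _ hZ.1).ge hm
  have h1 : (prV f (opensObj U W) ≫ e.left).base (t''.left.base (default : Spec (CommRingCat.of Ω'))) ∈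
      Set.range (r ≫ prV f U).base := by
    refine ⟨w, ?_⟩
    rw [← (EtCoh.isPullback_bc_map f e).w, Scheme.Hom.comp_apply, Scheme.Hom.comp_apply]
    exact congrArg (prV f U).base hw
  exact ((prV f (opensObj U W)).base (t''.left.base (default : Spec (CommRingCat.of Ω')))).2 h1

/-- The base change map is injective on stalks. -/
theorem injective_stalk_bcSh (η' : Spec (CommRingCat.of Ω) ⟶ Y') (F : EtCoh.Ab X) :
    Function.Injective ((EtCoh.stalk η').map (bcSh f g f' g' h F)) := by
  refine (injective_iff_map_eq_zero ((EtCoh.stalk η').map (bcSh f g f' g' h F)).hom).2 fun x hx => ?_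
  obtain ⟨U, t, p, rfl⟩ := exists_unit_germ (g' := g) (rfl : η' ≫ g = η' ≫ g) ((Sh f).obj F) x
  have hx0 : (EtCoh.stalk η').map (bcSh f g f' g' h F) (germ η' _ (liftPt g t η' rfl)
      (((EtCoh.pullPushAdj g).unit.app ((Sh f).obj F)).hom.app (op U) p)) = 0 := hx
  rw [stalk_map_germ] at hx0
  obtain ⟨W, k, w, hw, hk⟩ := eq_zero_nhd η' _ (liftPt g t η' rfl) _ hx0
  obtain ⟨t', ht', -⟩ := GrothLib.EtBasicB.exists_fib_lift η' k (liftPt g t η' rfl) w hw
  have hk' : ((EtCoh.pull g').obj F).obj.map ((EtCoh.bc f').map k).op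
      (βsec f g f' g' h.w F U (((ι f).app F).hom.app (op U) p)) = 0 := by
    rw [← bcSh_unit f g f' g' h F U p]
    exact (NatTrans.naturality_apply ((ι f').app ((EtCoh.pull g').obj F)).hom k.op _).symm.trans
      ((congrArg (((ι f').app ((EtCoh.pull g').obj F)).hom.app (op W)) hk).trans (map_zero _))
  have hp : germ (η' ≫ g) ((Sh f).obj F) t p = 0 := germ_Sh_eq_zero f F t p fun Ω₂ _ _ σ ξ hξ => by
    let ξ' := h.lift ξ (σ ≫ η') (hξ.trans (Category.assoc _ _ _).symm)
    have hξ' : ξ' ≫ f' = σ ≫ η' := h.lift_snd _ _ _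
    have he : ξ' ≫ g' = ξ := h.lift_fst _ _ _
    refine germ_eq_of_unit he F (liftPt f (transPt σ t) ξ hξ) _ ?_
    rw [← map_bcθ_liftPt f g f' g' h.w (Category.assoc σ η' g) hξ' he hξ (transPt σ t), ← germ_map]
    have e : liftPt g (transPt σ t) (σ ≫ η') (Category.assoc σ η' g) =
        (Scheme.pointSmallEtale (σ ≫ η')).fiber.map k (transPt σ t') := by
      apply Over.OverMorphism.ext
      change pullback.lift (σ ≫ t.left) (σ ≫ η') _ = (σ ≫ t'.left) ≫ k.left
      refine Eq.trans ?_ (Category.assoc _ _ _).symm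
      refine Eq.trans ?_ (congrArg (σ ≫ ·) (congrArg CommaMorphism.left ht').symm)
      refine pullback.hom_ext ?_ ?_
      · exact (pullback.lift_fst _ _ _).trans ((congrArg (σ ≫ ·) (pullback.lift_fst _ _ _).symm).trans
          (Category.assoc _ _ _).symm)
      · exact (pullback.lift_snd _ _ _).trans ((congrArg (σ ≫ ·) (pullback.lift_snd _ _ _).symm).trans
          (Category.assoc _ _ _).symm)
    rw [e, ← map_bc_liftPt f' k (transPt σ t') ξ' hξ', ← germ_map]
    exact (congrArg (germ ξ' _ _) hk').trans (map_zero _)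
  have e := germ_unit η' g ((Sh f).obj F) t p
  rw [fiberBcIso_inv_eq_liftPt] at e
  exact e.trans ((congrArg _ hp).trans (map_zero _))

end GrothLib.EtShriek
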