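import Groth.Agent.Lib.EtShriek.BC2
import Groth.Agent.Lib.EtShriek.Colim
import Groth.Agent.Lib.Constructible.ExtZero
import Groth.Agent.Lib.EtShriek.ExtZero

/-!
# Base change for direct images with proper support
-/

set_option autoImplicit false
set_option backward.isDefEq.respectTransparency false
universe u

open CategoryTheory CategoryTheory.Limits AlgebraicGeometry Opposite
open EtShriek GrothLib.EtSite

noncomputable section

namespace GrothLib.EtShriek

variable {X Y X' Y' : Scheme.{u}}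

section natural

variable (f : X ⟶ Y) (g : Y' ⟶ Y) (f' : X' ⟶ Y') (g' : X' ⟶ X) (h : IsPullback g' f' f g)
  [LocallyOfFiniteType f] [LocallyOfFiniteType f']

/-- The base change map is natural in the sheaf. -/
theorem bcSh_naturality {F G : EtCoh.Ab X} (a : F ⟶ G) :
    (EtCoh.pull g).map ((Sh f).map a) ≫ bcSh f g f' g' h G =
      bcSh f g f' g' h F ≫ (Sh f').map ((EtCoh.pull g').map a) := by
  apply ((EtCoh.pullPushAdj g).homEquiv _ _).injective
  apply Sheaf.hom_ext
  ext V p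
  obtain ⟨U⟩ := V
  rw [Adjunction.homEquiv_unit, Adjunction.homEquiv_unit]
  let B := (EtCoh.bc g).obj U
  let up := ((EtCoh.pullPushAdj g).unit.app ((Sh f).obj F)).hom.app (op U) p
  refine injective_ι_app f' ((EtCoh.pull g').obj G) _ ?_
  change ((ι f').app ((EtCoh.pull g').obj G)).hom.app (op B) ((bcSh f g f' g' h G).hom.app (op B)
      (((EtCoh.pull g).map ((Sh f).map a)).hom.app (op B) up)) =
    ((ι f').app ((EtCoh.pull g').obj G)).hom.app (op B) (((Sh f').map ((EtCoh.pull g').map a)).hom.app (op B)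
      ((bcSh f g f' g' h F).hom.app (op B) up))
  have e0 : ((EtCoh.pull g).map ((Sh f).map a)).hom.app (op B) up =
      ((EtCoh.pullPushAdj g).unit.app ((Sh f).obj G)).hom.app (op U) (((Sh f).map a).hom.app (op U) p) :=
    (congrArg (fun k : (Sh f).obj F ⟶ _ => k.hom.app (op U) p)
      ((EtCoh.pullPushAdj g).unit.naturality ((Sh f).map a))).symm
  rw [e0, bcSh_unit, Sh_map_app]
  refine Eq.trans ?_ (Eq.trans ((congrArg (((EtCoh.pull g').map a).hom.app _)
    (bcSh_unit f g f' g' h F U p)).symm)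
      (Sh_map_app f' _ _ ((EtCoh.pull g').map a) B _).symm)
  rw [βsec, βsec]
  refine Eq.trans ?_ (NatTrans.naturality_apply ((EtCoh.pull g').map a).hom _ _).symm
  refine congrArg (((EtCoh.pull g').obj G).obj.map _) ?_
  exact congrArg (fun k : F ⟶ _ => k.hom.app (op ((EtCoh.bc f).obj U)) (((ι f).app F).hom.app (op U) p))
    ((EtCoh.pullPushAdj g').unit.naturality a)

end natural

theorem isIso_bcSh_congr {f₁ f₂ : X ⟶ Y} (g : Y' ⟶ Y) {f₁' f₂' : X' ⟶ Y'} (g' : X' ⟶ X)
    [LocallyOfFiniteType f₁] [LocallyOfFiniteType f₂] [LocallyOfFiniteType f₁'] [LocallyOfFiniteType f₂']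
    (e : f₁ = f₂) (e' : f₁' = f₂') (h₁ : IsPullback g' f₁' f₁ g) (h₂ : IsPullback g' f₂' f₂ g)
    (F : EtCoh.Ab X) (hi : IsIso (bcSh f₁ g f₁' g' h₁ F)) : IsIso (bcSh f₂ g f₂' g' h₂ F) := by
  subst e e'
  exact hi

/-- Base change holds for compactifiable morphisms over an open of the base. -/
theorem isIso_bcSh_compactifiable {N Nb A : Scheme.{u}} (jb : N ⟶ Nb) [IsOpenImmersion jb]
    (gb : Nb ⟶ A) [IsProper gb] (i : A ⟶ Y) [IsOpenImmersion i] (g : Y' ⟶ Y)
    (f' : X' ⟶ Y') (g' : X' ⟶ N) [LocallyOfFiniteType f'] (h : IsPullback g' f' (jb ≫ gb ≫ i) g)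
    (G : EtCoh.Ab N) : IsIso (bcSh (jb ≫ gb ≫ i) g f' g' h G) := by
  let A' := pullback i g
  have sqi : IsPullback (pullback.fst i g) (pullback.snd i g) i g := IsPullback.of_hasPullback i g
  have : IsOpenImmersion (pullback.snd i g) := inferInstance
  let Nb' := pullback (gb ≫ i) g
  let gb' : Nb' ⟶ A' := sqi.lift (pullback.fst (gb ≫ i) g ≫ gb) (pullback.snd (gb ≫ i) g)
    (by rw [Category.assoc]; exact pullback.condition)
  have sqg : IsPullback (pullback.fst (gb ≫ i) g) gb' gb (pullback.fst i g) :=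
    IsPullback.of_bot (by rw [sqi.lift_snd]; exact IsPullback.of_hasPullback (gb ≫ i) g)
      (sqi.lift_fst _ _ _).symm sqi
  have : IsProper gb' := MorphismProperty.of_isPullback (P := @IsProper) sqg inferInstance
  let fb' := gb' ≫ pullback.snd i g
  have : IsSeparated fb' := inferInstanceAs (IsSeparated (gb' ≫ pullback.snd i g))
  have : LocallyOfFiniteType fb' := inferInstanceAs (LocallyOfFiniteType (gb' ≫ pullback.snd i g))
  have sqb : IsPullback (pullback.fst (gb ≫ i) g) fb' (gb ≫ i) g := sqg.paste_vert sqi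
  let jb' : X' ⟶ Nb' := sqb.lift (g' ≫ jb) f' (by rw [Category.assoc]; exact h.w)
  have sqj : IsPullback g' jb' jb (pullback.fst (gb ≫ i) g) :=
    IsPullback.of_bot (by rw [sqb.lift_snd]; exact h) (sqb.lift_fst _ _ _).symm sqb
  have : IsOpenImmersion jb' := MorphismProperty.of_isPullback (P := @IsOpenImmersion) sqj inferInstance
  have hb : ∀ G' : EtCoh.Ab Nb, IsIso (bcSh (gb ≫ i) g fb' (pullback.fst (gb ≫ i) g) sqb G') := fun G' =>
    isIso_bcSh_comp i g (pullback.snd i g) (pullback.fst i g) sqi gb gb' (pullback.fst (gb ≫ i) g) sqg G'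
      (isIso_bcSh_proper gb (pullback.fst i g) gb' (pullback.fst (gb ≫ i) g) sqg G')
      (isIso_bcSh_lqf i g (pullback.snd i g) (pullback.fst i g) sqi _)
  exact isIso_bcSh_congr g g' rfl (sqb.lift_snd _ _ _) (sqj.paste_vert sqb) h G
    (isIso_bcSh_comp (gb ≫ i) g fb' (pullback.fst (gb ≫ i) g) sqb jb jb' g' sqj G
      (isIso_bcSh_lqf jb (pullback.fst (gb ≫ i) g) jb' g' sqj G) (hb _))

variable (f : X ⟶ Y) (g : Y' ⟶ Y) (f' : X' ⟶ Y') (g' : X' ⟶ X) (h : IsPullback g' f' f g)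
  [IsSeparated f] [LocallyOfFiniteType f] [IsSeparated f'] [LocallyOfFiniteType f']

/-- The base change map is surjective on stalks. -/
theorem surjective_stalk_bcSh {Ω : Type u} [Field Ω] [IsSepClosed Ω]
    (η' : Spec (CommRingCat.of Ω) ⟶ Y') (F : EtCoh.Ab X) :
    Function.Surjective ((EtCoh.stalk η').map (bcSh f g f' g' h F)) := by
  classical
  intro y
  obtain ⟨V₁, t₁, q₁, rfl⟩ := exists_germ η' _ y
  -- an affine neighbourhood over an affine open of the base
  let v₁ : V₁.left := t₁.left.base (default : Spec (CommRingCat.of Ω))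
  let vg : V₁.left ⟶ Y := V₁.hom ≫ g
  obtain ⟨_, ⟨A, hA, rfl⟩, hvA, -⟩ := Y.isBasis_affineOpens.exists_subset_of_mem_open
    (Set.mem_univ (vg.base v₁)) isOpen_univ
  obtain ⟨_, ⟨O, hO, rfl⟩, hvO, hOA⟩ := V₁.left.isBasis_affineOpens.exists_subset_of_mem_open
    (show v₁ ∈ vg.base ⁻¹' (A : Set Y) from hvA) (A.2.preimage vg.continuous)
  let V' := opensObj V₁ O
  have : IsAffine V'.left := hO
  obtain ⟨t', ht', -⟩ := GrothLib.EtBasicB.exists_fib_lift η' (opensHom V₁ O) t₁
    (⟨v₁, hvO⟩ : (O : V₁.left.Opens)) rfl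
  rw [← ht', ← germ_map]
  generalize ((Sh f').obj ((EtCoh.pull g').obj F)).obj.map (opensHom V₁ O).op q₁ = q
  let G' := (EtCoh.pull g').obj F
  let B' := (EtCoh.bc f').obj V'
  let s' : EtCoh.sect G' B' := ((ι f').app G').hom.app (op V') q
  have hZ : ClSub.IsProperOver (prV f' V') (sectSupp G' B' s') := (mem_range_ι_iff f' G' V' s').1 ⟨q, rfl⟩
  let π : B'.left ⟶ X := B'.hom ≫ g'
  have hπA : ∀ x, π.base x ∈ f ⁻¹ᵁ A := fun x => by
    have e : π ≫ f = prV f' V' ≫ V'.hom ≫ g := by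
      change ((B'.hom : B'.left ⟶ X') ≫ g') ≫ f = _
      rw [Category.assoc, h.w, ← Category.assoc]
      exact (congrArg (· ≫ g) pullback.condition.symm).trans (Category.assoc _ _ _)
    change f.base (π.base x) ∈ A
    rw [← Scheme.Hom.comp_apply, e, Scheme.Hom.comp_apply]
    exact hOA ((prV f' V').base x).2
  have hK : IsCompact (π.base '' sectSupp G' B' s') :=
    (isCompact_sectSupp f' hZ).image π.continuous
  have hcov : ∀ x : (f ⁻¹ᵁ A : X.Opens), ∃ W : X.Opens, IsAffineOpen W ∧ x.1 ∈ W ∧ W ≤ f ⁻¹ᵁ A := by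
    intro x
    obtain ⟨_, ⟨W, hW, rfl⟩, hxW, hWA⟩ := X.isBasis_affineOpens.exists_subset_of_mem_open x.2
      (f ⁻¹ᵁ A).2
    exact ⟨W, hW, hxW, hWA⟩
  choose Wf hWf hxWf hWfA using hcov
  obtain ⟨T, hT⟩ := hK.elim_finite_subcover (fun x => (Wf x : Set X)) (fun x => (Wf x).2) (by
    rintro _ ⟨x, -, rfl⟩
    exact Set.mem_iUnion.2 ⟨⟨π.base x, hπA x⟩, hxWf _⟩)
  let N : X.Opens := ⨆ x ∈ T, Wf x
  have hNc : IsCompact (N : Set X) := by
    simp only [N, TopologicalSpace.Opens.coe_iSup]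
    exact T.finite_toSet.isCompact_biUnion fun x _ => (hWf x).isCompact
  have hZN : π.base '' sectSupp G' B' s' ⊆ (N : Set X) := by
    simpa [N, TopologicalSpace.Opens.coe_iSup] using hT
  have hNA : N ≤ f ⁻¹ᵁ A := iSup₂_le fun x _ => hWfA x
  -- compactify over the affine open
  let Ni : N.toScheme ⟶ X := Scheme.Opens.ι N
  have : IsOpenImmersion Ni := Scheme.Opens.instIsOpenImmersionι N
  let A₀ : Y.Opens := A
  let Ai : A₀.toScheme ⟶ Y := Scheme.Opens.ι A₀
  have : IsOpenImmersion Ai := Scheme.Opens.instIsOpenImmersionι A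
  have : IsAffine A₀.toScheme := hA
  let hN : N.toScheme ⟶ A₀.toScheme := IsOpenImmersion.lift Ai (Ni ≫ f) (by
    rintro _ ⟨x, rfl⟩
    rw [Scheme.Opens.range_ι]
    exact hNA x.2)
  have hhN : hN ≫ Ai = Ni ≫ f := IsOpenImmersion.lift_fac _ _ _
  have : CompactSpace N.toScheme := isCompact_iff_compactSpace.1 hNc
  have : IsSeparated (hN ≫ Ai) := by rw [hhN]; infer_instance
  have : IsSeparated hN := IsSeparated.of_comp hN Ai
  have : LocallyOfFiniteType (hN ≫ Ai) := by rw [hhN]; infer_instance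
  have : LocallyOfFiniteType hN := locallyOfFiniteType_of_comp hN Ai
  have : QuasiCompact hN := quasiCompact_of_compactSpace hN
  obtain ⟨Nb, jb, gb, hjb, -, hgb, hjg⟩ := Groth.Agent.S0384.result hN
  have := hjb
  have := hgb
  have hfN : jb ≫ gb ≫ Ai = Ni ≫ f := by rw [← Category.assoc, hjg, hhN]
  let N' : X'.Opens := g' ⁻¹ᵁ N
  let Ni' : N'.toScheme ⟶ X' := Scheme.Opens.ι N'
  have : IsOpenImmersion Ni' := Scheme.Opens.instIsOpenImmersionι N'
  have hj : IsPullback (g' ∣_ N) Ni' Ni g' := isPullback_morphismRestrict g' N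
  have : LocallyOfFiniteType (jb ≫ gb ≫ Ai) := inferInstance
  let G₀ := (restrAlong N.ι).obj F
  have h1 : IsIso (bcSh Ni g' Ni' (g' ∣_ N) hj G₀) := isIso_bcSh_lqf Ni g' Ni' (g' ∣_ N) hj G₀
  have h2 : IsIso (bcSh (Ni ≫ f) g (Ni' ≫ f') (g' ∣_ N) (hj.paste_vert h) G₀) :=
    isIso_bcSh_congr g (g' ∣_ N) hfN rfl (by rw [hfN]; exact hj.paste_vert h) (hj.paste_vert h) G₀
      (isIso_bcSh_compactifiable jb gb Ai g (Ni' ≫ f') (g' ∣_ N) _ G₀)
  have h3 : IsIso (bcSh f g f' g' h ((Sh Ni).obj G₀)) :=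
    isIso_bcSh_of_comp f g f' g' h Ni Ni' (g' ∣_ N) hj G₀ h1 h2
  -- the part of `F` over `N`
  have := isIso_toSh N.ι
  let ε : (Sh Ni).obj G₀ ⟶ F :=
    inv ((toSh N.ι).app G₀) ≫ GrothLib.Constructible.openIncl F N
  have : Mono ε := mono_comp _ _
  let a := (EtCoh.pull g').map ε
  have : Mono a := pull_map_mono g' ε
  have hainj : ∀ W : X'.Etale, Function.Injective (a.hom.app (op W)) := fun W => by
    rw [← AddCommGrpCat.mono_iff_injective]
    exact inferInstanceAs (Mono ((sheafToPresheaf X'.smallEtaleTopology AddCommGrpCat.{u + 1} ⋙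
      (evaluation _ AddCommGrpCat.{u + 1}).obj (op W)).map a))
  -- lift the section
  have hloc : ∀ x : B'.left, ∃ (W : X'.Etale) (k : W ⟶ B'), x ∈ Set.range k.left.base ∧
      ∃ z, a.hom.app (op W) z = G'.obj.map k.op s' := by
    intro x
    by_cases hx : x ∈ sectSupp G' B' s'
    · obtain ⟨τ, hτ⟩ := exists_fib (gpt (B'.hom.base x)) (U := B') x (gpt_default _).symm
      let ξ' := gpt (B'.hom.base x)
      have hbij : Function.Bijective ((EtCoh.stalk ξ').map a) := by
        have hN' : (ξ' ≫ g').base default ∈ N := by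
          rw [Scheme.Hom.comp_apply, gpt_default, ← Scheme.Hom.comp_apply]
          exact hZN ⟨x, hx, rfl⟩
        have : IsIso ((EtCoh.stalk (ξ' ≫ g')).map ε) := by
          have : IsIso ((EtCoh.stalk (ξ' ≫ g')).map (GrothLib.Constructible.openIncl F N)) :=
            (ConcreteCategory.isIso_iff_bijective _).2
              (GrothLib.Constructible.bijective_stalk_openIncl F (ξ' ≫ g') hN')
          rw [Functor.map_comp]
          infer_instance
        have : IsIso ((EtCoh.stalk ξ').map a) :=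
          (NatIso.isIso_map_iff (pullStalkIso ξ' g') ε).2 this
        exact ConcreteCategory.bijective_of_isIso _
      obtain ⟨z₀, hz₀⟩ := hbij.2 (germ ξ' G' τ s')
      obtain ⟨W, k, v, hv, z, hz⟩ := exists_nhd_image ξ' a τ s' z₀ hz₀
      exact ⟨W, k, ⟨v, hv.trans hτ⟩, z, hz⟩
    · simp only [sectSupp, Set.mem_setOf_eq, not_forall] at hx
      obtain ⟨W, k, hw, h0⟩ := hx
      exact ⟨W, k, hw, 0, (map_zero _).trans (not_not.1 h0).symm⟩
  choose W k hk z hz using hloc
  obtain ⟨s₀, hs₀⟩ := exists_glue ((EtCoh.pull g').obj ((Sh Ni).obj G₀)) B' W k (fun x => ⟨x, hk x⟩) z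
    (fun i i' Z p p' e => hainj Z (by
      rw [NatTrans.naturality_apply a.hom p.op, NatTrans.naturality_apply a.hom p'.op, hz, hz,
        ← ConcreteCategory.comp_apply, ← ConcreteCategory.comp_apply, ← Functor.map_comp,
        ← Functor.map_comp, ← op_comp, ← op_comp, e]))
  have has₀ : a.hom.app (op B') s₀ = s' := by
    refine sub_eq_zero.1 (section_eq_zero_of_germs G' B' _ fun Ω' _ _ ξ τ => ?_)
    obtain ⟨v, hv⟩ := hk (τ.left.base (default : Spec (CommRingCat.of Ω')))
    obtain ⟨τ', hτ', -⟩ := GrothLib.EtBasicB.exists_fib_lift ξ (k _) τ v hv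
    rw [← hτ', ← germ_map]
    refine (congrArg (germ ξ G' τ') ?_).trans (map_zero _)
    rw [map_sub, sub_eq_zero]
    exact (NatTrans.naturality_apply a.hom _ s₀).symm.trans ((congrArg _ (hs₀ _)).trans (hz _))
  obtain ⟨q₀, hq₀⟩ := (mem_range_ι_iff f' _ V' s₀).2 (by
    rw [← sectSupp_app_of_injective a hainj B' s₀, has₀]
    exact hZ)
  have hq : ((Sh f').map a).hom.app (op V') q₀ = q :=
    injective_ι_app f' G' V' ((Sh_map_app f' _ _ a V' q₀).trans ((congrArg _ hq₀).trans has₀))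
  obtain ⟨x₀, hx₀⟩ := (ConcreteCategory.bijective_of_isIso
    ((EtCoh.stalk η').map (bcSh f g f' g' h ((Sh Ni).obj G₀)))).2 (germ η' _ t' q₀)
  refine ⟨(EtCoh.stalk η').map ((EtCoh.pull g).map ((Sh f).map ε)) x₀, ?_⟩
  rw [← ConcreteCategory.comp_apply, ← Functor.map_comp, bcSh_naturality, Functor.map_comp,
    ConcreteCategory.comp_apply, hx₀]
  exact (stalk_map_germ η' ((Sh f').map a) t' q₀).trans (congrArg _ hq)

/-- Base change for direct images with proper support. -/
theorem isIso_bcSh (F : EtCoh.Ab X) : IsIso (bcSh f g f' g' h F) :=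
  isIso_of_stalksAC _ fun _ _ _ η' =>
    ⟨injective_stalk_bcSh f g f' g' h η' F, surjective_stalk_bcSh f g f' g' h η' F⟩

/-- The base change isomorphism. -/
def lowerShriekBC (F : EtCoh.Ab X) :
    (EtCoh.pull g).obj ((lowerShriek f).obj F) ≅ (lowerShriek f').obj ((EtCoh.pull g').obj F) :=
  (EtCoh.pull g).mapIso ((lowerShriekIso f).app F) ≪≫
    @asIso _ _ _ _ (bcSh f g f' g' h F) (isIso_bcSh f g f' g' h F) ≪≫
      ((lowerShriekIso f').app _).symm

theorem lowerShriekBC_compat (F : EtCoh.Ab X) :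
    (lowerShriekBC f g f' g' h F).hom ≫ lowerShriekToPush f' ((EtCoh.pull g').obj F) =
      (EtCoh.pull g).map (lowerShriekToPush f F) ≫ EtCoh.baseChange0 f g f' g' h.w F := by
  simp [lowerShriekBC, lowerShriekToPush_eq, bcSh_ι]

end GrothLib.EtShriek
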