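import Groth.Agent.Lib.EtShriek.Functor
import Groth.Agent.Lib.EtSite.PropSplit

/-!
# Composition of direct images with proper support
-/

set_option autoImplicit false
set_option backward.isDefEq.respectTransparency false
universe u

open CategoryTheory CategoryTheory.Limits AlgebraicGeometry Opposite
open EtShriek GrothLib.EtSite

noncomputable section

namespace GrothLib.EtShriek

variable {X Y Z : Scheme.{u}}

/-- Supports of sections with proper support as sections of a sheaf downstairs. -/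
theorem sectSupp_Sh (h : X ⟶ Y) [LocallyOfFiniteType h] (F : EtCoh.Ab X) (U : Y.Etale)
    (p : EtCoh.sect ((Sh h).obj F) U) :
    sectSupp ((Sh h).obj F) U p =
      (prV h U).base '' sectSupp F _ (((ι h).app F).hom.app (op U) p) := by
  let s : EtCoh.sect F ((EtCoh.bc h).obj U) := ((ι h).app F).hom.app (op U) p
  have hZ : ClSub.IsProperOver (prV h U) (sectSupp F _ s) := (mem_range_ι_iff h F U s).1 ⟨p, rfl⟩
  have : IsProper (GrothLib.ProperOver.redι (sectSupp F _ s) hZ.1 ≫ prV h U) := hZ.2
  have hcl : IsClosed ((prV h U).base '' sectSupp F _ s) := by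
    have e : (prV h U).base '' sectSupp F _ s =
        Set.range (GrothLib.ProperOver.redι (sectSupp F _ s) hZ.1 ≫ prV h U).base := by
      rw [Scheme.Hom.comp_base, TopCat.coe_comp, Set.range_comp, GrothLib.ProperOver.range_redι]
    rw [e]
    exact (Scheme.Hom.isClosedMap _).isClosed_range
  refine Set.Subset.antisymm (fun x hx => ?_) ?_
  · by_contra hc
    let O : U.left.Opens := ⟨((prV h U).base '' sectSupp F _ s)ᶜ, hcl.isOpen_compl⟩
    refine hx _ (opensHom U O) ⟨⟨x, hc⟩, rfl⟩ (injective_ι_app h F _ ?_)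
    rw [map_zero]
    refine (NatTrans.naturality_apply ((ι h).app F).hom (opensHom U O).op p).trans ?_
    refine section_eq_zero_of_germs F _ _ fun Ω _ _ ξ t => ?_
    by_contra hne
    have hm := (GrothLib.EtBasicB.germ_ne_zero_iff ξ F t _).1 hne
    change t.left.base (default : Spec (CommRingCat.of Ω)) ∈ sectSupp F _ (F.obj.map ((EtCoh.bc h).map (opensHom U O)).op s) at hm
    rw [sectSupp_map] at hm
    have h1 : (prV h (opensObj U O) ≫ (opensHom U O).left).base
        (t.left.base (default : Spec (CommRingCat.of Ω))) ∈ (prV h U).base '' sectSupp F _ s := by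
      refine ⟨_, hm, ?_⟩
      rw [← (EtCoh.isPullback_bc_map h (opensHom U O)).w]
      rfl
    exact ((prV h (opensObj U O)).base (t.left.base (default : Spec (CommRingCat.of Ω)))).2 h1
  · rintro _ ⟨z, hz, rfl⟩ W g ⟨w, hw⟩ h0
    have sq := EtCoh.isPullback_bc_map h g
    obtain ⟨y, hy, -⟩ := Scheme.Pullback.exists_preimage_pullback (f := prV h U) (g := g.left) z w hw.symm
    refine hz _ ((EtCoh.bc h).map g) ⟨sq.isoPullback.inv y, ?_⟩ ?_
    · rw [← Scheme.Hom.comp_apply, sq.isoPullback_inv_fst]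
      exact hy
    · exact (NatTrans.naturality_apply ((ι h).app F).hom g.op p).symm.trans
        ((congrArg (((ι h).app F).hom.app (op W)) h0).trans (map_zero _))

variable (h : X ⟶ Y) (g : Y ⟶ Z) [IsSeparated g] [LocallyOfFiniteType h] [LocallyOfFiniteType g]

/-- The comparison of the two base changes. -/
def bcComp (V : Z.Etale) :
    (EtCoh.bc (h ≫ g)).obj V ≅ (EtCoh.bc h).obj ((EtCoh.bc g).obj V) :=
  (MorphismProperty.Over.pullbackComp (P := EtCoh.etaleMP) (Q := ⊤) h g).app V

omit [IsSeparated g] [LocallyOfFiniteType h] [LocallyOfFiniteType g] in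
theorem bcComp_fst (V : Z.Etale) :
    (bcComp h g V).hom.left ≫ prV h ((EtCoh.bc g).obj V) ≫ prV g V = prV (h ≫ g) V :=
  MorphismProperty.Over.pullbackComp_left_fst_fst (P := EtCoh.etaleMP) (Q := ⊤) h g V

omit [IsSeparated g] [LocallyOfFiniteType h] [LocallyOfFiniteType g] in
theorem pushComp_app (F : EtCoh.Ab X) (V : Z.Etale) :
    ((EtCoh.pushComp g h).hom.app F).hom.app (op V) = F.obj.map (bcComp h g V).hom.op := by
  simp [EtCoh.pushComp, Functor.sheafPushforwardContinuousComp', bcComp,
    Functor.sheafPushforwardContinuousComp, Functor.sheafPushforwardContinuousIso]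

/-- The composite inclusion into the direct image along the composite. -/
def ιComp : Sh h ⋙ Sh g ⟶ EtCoh.push (h ≫ g) where
  app F := (ι g).app ((Sh h).obj F) ≫ (EtCoh.push g).map ((ι h).app F) ≫
    (EtCoh.pushComp g h).hom.app F
  naturality F G a := by
    rw [Functor.comp_map, (ι g).naturality_assoc, ← Functor.map_comp_assoc, (ι h).naturality,
      Functor.map_comp_assoc]
    simp only [Category.assoc]
    congr 2
    exact (EtCoh.pushComp g h).hom.naturality a

theorem ιComp_apply (F : EtCoh.Ab X) (V : Z.Etale) (q : EtCoh.sect ((Sh h ⋙ Sh g).obj F) V) :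
    ((ιComp h g).app F).hom.app (op V) q =
      F.obj.map (bcComp h g V).hom.op (((ι h).app F).hom.app (op ((EtCoh.bc g).obj V))
        (((ι g).app ((Sh h).obj F)).hom.app (op V) q)) :=
  ConcreteCategory.congr_hom (pushComp_app h g F V) _

theorem injective_ιComp (F : EtCoh.Ab X) (V : Z.Etale) :
    Function.Injective (((ιComp h g).app F).hom.app (op V)) := by
  intro a b e
  rw [ιComp_apply, ιComp_apply] at e
  exact injective_ι_app g _ V (injective_ι_app h F _
    ((ConcreteCategory.bijective_of_isIso (F.obj.map (bcComp h g V).hom.op)).1 e))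

theorem mem_range_ιComp_iff (F : EtCoh.Ab X) (V : Z.Etale)
    (s : EtCoh.sect F ((EtCoh.bc (h ≫ g)).obj V)) :
    (∃ q, ((ιComp h g).app F).hom.app (op V) q = s) ↔
      ClSub.IsProperOver (prV (h ≫ g) V) (sectSupp F _ s) := by
  let e := bcComp h g V
  let π₁ := prV h ((EtCoh.bc g).obj V)
  let π₂ := prV g V
  obtain ⟨s', rfl⟩ := (ConcreteCategory.bijective_of_isIso (F.obj.map e.hom.op)).2 s
  have he : e.hom.left ≫ π₁ ≫ π₂ = prV (h ≫ g) V := bcComp_fst h g V
  have hi : e.inv.left ≫ prV (h ≫ g) V = π₁ ≫ π₂ := by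
    rw [← he, ← Category.assoc]
    exact (congrArg (fun k => k.left ≫ π₁ ≫ π₂) e.inv_hom_id).trans (Category.id_comp _)
  have : IsIso e.hom.left := ⟨e.inv.left, congrArg (fun k => k.left) e.hom_inv_id,
    congrArg (fun k => k.left) e.inv_hom_id⟩
  have : IsIso e.inv.left := ⟨e.hom.left, congrArg (fun k => k.left) e.inv_hom_id,
    congrArg (fun k => k.left) e.hom_inv_id⟩
  have : LocallyOfFiniteType (π₁ ≫ π₂) := inferInstance
  have key : ClSub.IsProperOver (prV (h ≫ g) V) (sectSupp F _ (F.obj.map e.hom.op s')) ↔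
      ClSub.IsProperOver (π₁ ≫ π₂) (sectSupp F _ s') := by
    rw [sectSupp_map]
    constructor
    · intro hp
      have := GrothLib.ProperOver.isProperOver_preimage (π₁ ≫ π₂) (prV (h ≫ g) V) e.inv.left hi hp
      rwa [← Set.preimage_comp, ← TopCat.coe_comp, ← Scheme.Hom.comp_base,
        show e.inv.left ≫ e.hom.left = 𝟙 _ from congrArg (fun k => k.left) e.inv_hom_id] at this
    · exact GrothLib.ProperOver.isProperOver_preimage (prV (h ≫ g) V) (π₁ ≫ π₂) e.hom.left he
  rw [key]
  let Zs := sectSupp F ((EtCoh.bc h).obj ((EtCoh.bc g).obj V)) s'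
  constructor
  · rintro ⟨q, hq⟩
    rw [ιComp_apply] at hq
    have hq' := (ConcreteCategory.bijective_of_isIso (F.obj.map e.hom.op)).1 hq
    let p := ((ι g).app ((Sh h).obj F)).hom.app (op V) q
    have h1 : ClSub.IsProperOver π₁ Zs := (mem_range_ι_iff h F _ s').1 ⟨p, hq'⟩
    have h2 : ClSub.IsProperOver π₂ (sectSupp ((Sh h).obj F) _ p) :=
      (mem_range_ι_iff g _ V p).1 ⟨q, rfl⟩
    rw [sectSupp_Sh, hq'] at h2
    obtain ⟨hZ, hp1⟩ := h1
    obtain ⟨hZ', hp2⟩ := h2
    have : IsProper (GrothLib.ProperOver.redι Zs hZ ≫ π₁) := hp1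
    have : IsProper (GrothLib.ProperOver.redι (π₁.base '' Zs) hZ' ≫ π₂) := hp2
    have := GrothLib.ProperOver.isReduced_red Zs hZ
    obtain ⟨σ, hσ⟩ := GrothLib.ProperOver.exists_lift_redι hZ'
      (GrothLib.ProperOver.redι Zs hZ ≫ π₁) (by
        rw [Scheme.Hom.comp_base, TopCat.coe_comp, Set.range_comp, GrothLib.ProperOver.range_redι])
    have : IsProper σ := by
      have : IsProper (σ ≫ GrothLib.ProperOver.redι (π₁.base '' Zs) hZ') := by rw [hσ]; infer_instance
      exact IsProper.of_comp σ (GrothLib.ProperOver.redι (π₁.base '' Zs) hZ')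
    refine ⟨hZ, ?_⟩
    change IsProper (GrothLib.ProperOver.redι Zs hZ ≫ π₁ ≫ π₂)
    rw [← Category.assoc, ← hσ, Category.assoc]
    infer_instance
  · intro hp
    obtain ⟨hZ, hp'⟩ := id hp
    have : IsProper ((GrothLib.ProperOver.redι Zs hZ ≫ π₁) ≫ π₂) := by
      rw [Category.assoc]; exact hp'
    have h1 : IsProper (GrothLib.ProperOver.redι Zs hZ ≫ π₁) := IsProper.of_comp _ π₂
    obtain ⟨p, hpp⟩ := (mem_range_ι_iff h F _ s').2 ⟨hZ, h1⟩
    obtain ⟨q, hq⟩ := (mem_range_ι_iff g ((Sh h).obj F) V p).2 (by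
      rw [sectSupp_Sh, hpp]
      exact GrothLib.ProperOver.isProperOver_image (π₁ ≫ π₂) π₂ π₁ rfl hp fun _ => inferInstance)
    exact ⟨q, by rw [ιComp_apply, hq, hpp]⟩

end GrothLib.EtShriek
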