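import Groth.Agent.Lib.EtShriek.Sheaf
import Mathlib.Algebra.Homology.ShortComplex.ExactFunctor
import Mathlib.Algebra.Homology.ShortComplex.Ab

/-!
# The direct image with proper support as a subfunctor of the direct image
-/

set_option autoImplicit false
set_option backward.isDefEq.respectTransparency false
universe u

open CategoryTheory CategoryTheory.Limits AlgebraicGeometry Opposite
open EtShriek GrothLib.EtSite

noncomputable section

namespace GrothLib.EtShriek

variable {X Y : Scheme.{u}} (f : X ⟶ Y) [LocallyOfFiniteType f]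

/-- The sheaf of sections with proper support, without sheafification. -/
def Sh : EtCoh.Ab X ⥤ EtCoh.Ab Y where
  obj F := ⟨lowerShriekPre f F, isSheaf_lowerShriekPre f F⟩
  map a := ⟨(lowerShriekPreFunctor f).map a⟩
  map_id F := Sheaf.hom_ext ((lowerShriekPreFunctor f).map_id F)
  map_comp a b := Sheaf.hom_ext ((lowerShriekPreFunctor f).map_comp a b)

/-- The inclusion into the direct image. -/
def ι : Sh f ⟶ EtCoh.push f where
  app F := ⟨lowerShriekPreι f F⟩
  naturality F G a := by
    apply Sheaf.hom_ext
    ext V s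
    rfl

theorem injective_ι_app (F : EtCoh.Ab X) (V : Y.Etale) :
    Function.Injective (((ι f).app F).hom.app (op V)) :=
  fun _ _ h => Subtype.ext h

theorem mem_range_ι_iff (F : EtCoh.Ab X) (V : Y.Etale)
    (s : EtCoh.sect F ((EtCoh.bc f).obj V)) :
    (∃ p : EtCoh.sect ((Sh f).obj F) V, ((ι f).app F).hom.app (op V) p = s) ↔
      ClSub.IsProperOver (prV f V) (sectSupp F _ s) := by
  rw [← mem_shriekSubgroup_iff' f F V s]
  exact ⟨fun ⟨p, hp⟩ => hp ▸ p.2, fun h => ⟨⟨s, h⟩, rfl⟩⟩

instance mono_ι_app (F : EtCoh.Ab X) : Mono ((ι f).app F) := by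
  have : Sheaf.IsLocallyInjective ((ι f).app F) :=
    Sheaf.isLocallyInjective_iff_injective ((ι f).app F) |>.2 fun U => injective_ι_app f F U.unop
  exact Sheaf.mono_of_isLocallyInjective _

/-- Sheafification does not change the presheaf of sections with proper support. -/
def lowerShriekIso : lowerShriek f ≅ Sh f :=
  Functor.associator (Sh f) (sheafToPresheaf Y.smallEtaleTopology AddCommGrpCat.{u + 1}) _ ≪≫
    Functor.isoWhiskerLeft (Sh f)
      (asIso (sheafificationAdjunction Y.smallEtaleTopology AddCommGrpCat.{u + 1}).counit) ≪≫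
    Functor.rightUnitor _

theorem lowerShriekToPush_eq (F : EtCoh.Ab X) :
    lowerShriekToPush f F = (lowerShriekIso f).hom.app F ≫ (ι f).app F := by
  apply ((sheafificationAdjunction Y.smallEtaleTopology AddCommGrpCat.{u + 1}).homEquiv
    (lowerShriekPre f F) ((EtCoh.push f).obj F)).injective
  rw [Equiv.apply_symm_apply, lowerShriekIso]
  simp only [Iso.trans_hom, NatTrans.comp_app, Functor.associator_hom_app, Functor.isoWhiskerLeft_hom,
    Functor.whiskerLeft_app, asIso_hom, Functor.rightUnitor_hom_app, Category.id_comp, Category.comp_id]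
  symm
  refine (Adjunction.homEquiv_naturality_right _ _ _).trans ?_
  have h := ((sheafificationAdjunction Y.smallEtaleTopology AddCommGrpCat.{u + 1}).homEquiv_unit
    (lowerShriekPre f F) ((Sh f).obj F)
    ((sheafificationAdjunction Y.smallEtaleTopology AddCommGrpCat.{u + 1}).counit.app ((Sh f).obj F)))
  refine (congrArg (· ≫ _) (h.trans ((sheafificationAdjunction Y.smallEtaleTopology
    AddCommGrpCat.{u + 1}).right_triangle_components ((Sh f).obj F)))).trans ?_
  exact Category.id_comp _

theorem Sh_map_app (F G : EtCoh.Ab X) (a : F ⟶ G) (V : Y.Etale) (p : EtCoh.sect ((Sh f).obj F) V) :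
    ((ι f).app G).hom.app (op V) (((Sh f).map a).hom.app (op V) p) =
      a.hom.app (op ((EtCoh.bc f).obj V)) (((ι f).app F).hom.app (op V) p) := rfl

instance : (Sh f).Additive where
  map_add {F G a b} := by
    apply Sheaf.hom_ext
    ext V s
    rfl

/-- A monomorphism preserves supports. -/
theorem sectSupp_app_of_injective {F G : EtCoh.Ab X} (a : F ⟶ G)
    (ha : ∀ W : X.Etale, Function.Injective (a.hom.app (op W))) (U : X.Etale) (s : EtCoh.sect F U) :
    sectSupp G U (a.hom.app (op U) s) = sectSupp F U s := by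
  refine (sectSupp_map_subset a U s).antisymm fun x hx W g hw h => ?_
  refine hx W g hw (ha W ?_)
  rw [map_zero]
  exact (NatTrans.naturality_apply a.hom g.op s).trans h

/-- The evaluation of `Sh f` at `V`. -/
abbrev secF (V : Y.Etale) : EtCoh.Ab X ⥤ AddCommGrpCat.{u + 1} :=
  Sh f ⋙ sheafToPresheaf Y.smallEtaleTopology AddCommGrpCat.{u + 1} ⋙
    (evaluation Y.Etaleᵒᵖ AddCommGrpCat.{u + 1}).obj (op V)

theorem preservesFiniteLimits_secF (V : Y.Etale) : PreservesFiniteLimits (secF f V) := by
  rw [Functor.preservesFiniteLimits_iff_forall_exact_map_and_mono]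
  intro S hS
  have hm := hS.mono_f
  have inj : ∀ W : X.Etale, Function.Injective (S.f.hom.app (op W)) := fun W => by
    rw [← AddCommGrpCat.mono_iff_injective]
    exact inferInstanceAs (Mono ((sheafToPresheaf X.smallEtaleTopology AddCommGrpCat.{u + 1} ⋙
      (evaluation _ AddCommGrpCat.{u + 1}).obj (op W)).map S.f))
  refine ⟨?_, ?_⟩
  · have hex := (Functor.preservesFiniteLimits_iff_forall_exact_map_and_mono
      (sheafToPresheaf X.smallEtaleTopology AddCommGrpCat.{u + 1} ⋙
        (evaluation _ AddCommGrpCat.{u + 1}).obj (op ((EtCoh.bc f).obj V)))).1 inferInstance S hS |>.1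
    rw [ShortComplex.ab_exact_iff] at hex ⊢
    intro p hp
    obtain ⟨a, ha⟩ := hex p.1 (congrArg Subtype.val hp)
    have hmem : ClSub.IsProperOver (prV f V) (sectSupp S.X₁ _ a) := by
      rw [← sectSupp_app_of_injective S.f inj _ a]
      have ha' : S.f.hom.app (op ((EtCoh.bc f).obj V)) a = p.1 := ha
      rw [ha']
      exact (mem_shriekSubgroup_iff' f _ _ _).1 p.2
    exact ⟨⟨a, (mem_shriekSubgroup_iff' f _ _ _).2 hmem⟩, Subtype.ext ha⟩
  · rw [AddCommGrpCat.mono_iff_injective]
    intro p q h
    exact Subtype.ext (inj _ (congrArg Subtype.val h))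

instance preservesFiniteLimits_Sh : PreservesFiniteLimits (Sh f) :=
  have : PreservesFiniteLimits (Sh f ⋙ sheafToPresheaf Y.smallEtaleTopology AddCommGrpCat.{u + 1}) :=
    ⟨fun J _ _ => preservesLimitsOfShape_of_evaluation _ J fun V =>
      have := preservesFiniteLimits_secF f V.unop
      inferInstanceAs (PreservesLimitsOfShape J (secF f V.unop))⟩
  preservesFiniteLimits_of_reflects_of_preserves _ (sheafToPresheaf Y.smallEtaleTopology AddCommGrpCat.{u + 1})

theorem preservesFiniteLimits_lowerShriek : PreservesFiniteLimits (lowerShriek f) :=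
  preservesFiniteLimits_of_natIso (lowerShriekIso f).symm

end GrothLib.EtShriek
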