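import Groth.Agent.Lib.EtShriek.CompIso

/-!
# Sections with compact support and compactifications
-/

set_option autoImplicit false
set_option backward.isDefEq.respectTransparency false
universe u

open CategoryTheory CategoryTheory.Limits AlgebraicGeometry Opposite
open EtShriek GrothLib.EtSite

noncomputable section

namespace GrothLib.EtShriek

variable {X : Scheme.{u}}

/-- The generated group of compactly supported sections consists of such sections. -/
theorem mem_H0c_iff {k : Type u} [Field k] (p : X ⟶ Spec (CommRingCat.of k)) [LocallyOfFiniteType p]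
    (F : EtCoh.Ab X) (s : EtCoh.sect F (EtCoh.top X)) :
    s ∈ H0c p F ↔ ClSub.IsProperOver p (sectSupp F (EtCoh.top X) s) := by
  refine ⟨fun h => ?_, fun h => AddSubgroup.subset_closure ((hasProperSupport_iff F _ s p).2 h)⟩
  refine AddSubgroup.closure_induction (p := fun x _ => ClSub.IsProperOver p (sectSupp F (EtCoh.top X) x))
    (fun x hx => (hasProperSupport_iff F _ x p).1 hx) ?_ (fun a b _ _ ha hb => ?_) (fun a _ ha => ?_) h
  · rw [sectSupp_zero]
    have := GrothLib.ProperOver.isProperOver_iUnion p (ι := Empty) (fun e => e.elim) (fun e => e.elim)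
    rwa [Set.iUnion_of_empty] at this
  · refine GrothLib.ProperOver.IsProperOver.subset p ?_ (isClosed_sectSupp F _ _) (sectSupp_add F _ a b)
    have := GrothLib.ProperOver.isProperOver_iUnion p (ι := Bool)
      (fun c => bif c then sectSupp F (EtCoh.top X) a else sectSupp F (EtCoh.top X) b)
      (by rintro (_ | _) <;> assumption)
    rwa [← Set.union_eq_iUnion] at this
  · rwa [sectSupp_neg]

/-- Base change of the final object. -/
def bcTopIso {Xb : Scheme.{u}} (j : X ⟶ Xb) : (EtCoh.bc j).obj (EtCoh.top Xb) ≅ EtCoh.top X :=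
  MorphismProperty.Over.isoMk (asIso (pullback.snd (𝟙 Xb) j)) (Category.comp_id _)

theorem nonempty_H0c_equiv {k : Type u} [Field k] {Xb : Scheme.{u}} (j : X ⟶ Xb) [IsOpenImmersion j]
    (pb : Xb ⟶ Spec (CommRingCat.of k)) [IsProper pb] [JCont j] (F : EtCoh.Ab X) :
    Nonempty ((H0c (j ≫ pb) F) ≃+ EtCoh.sect ((extZero j).obj F) (EtCoh.top Xb)) := by
  have := isIso_toSh j
  let ε := bcTopIso j
  let B := (EtCoh.bc j).obj (EtCoh.top Xb)
  have hε : ε.hom.left ≫ j = prV j (EtCoh.top Xb) := by
    change pullback.snd (𝟙 Xb) j ≫ j = pullback.fst (𝟙 Xb) j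
    rw [← pullback.condition, Category.comp_id]
  have : IsIso ε.hom.left := inferInstanceAs (IsIso (pullback.snd (𝟙 Xb) j))
  have hi : ε.inv.left ≫ prV j (EtCoh.top Xb) = j := by
    rw [← hε, ← Category.assoc]
    exact (congrArg (fun k => k.left ≫ j) ε.inv_hom_id).trans (Category.id_comp _)
  have : IsIso ε.inv.left := ⟨ε.hom.left, congrArg (fun k => k.left) ε.inv_hom_id,
    congrArg (fun k => k.left) ε.hom_inv_id⟩
  have key : ∀ s : EtCoh.sect F (EtCoh.top X),
      s ∈ H0c (j ≫ pb) F ↔ F.obj.map ε.hom.op s ∈ shriekSubgroup j F (EtCoh.top Xb) := fun s => by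
    rw [mem_H0c_iff, mem_shriekSubgroup_iff', sectSupp_map]
    have h1 : ClSub.IsProperOver (j ≫ pb) (sectSupp F (EtCoh.top X) s) ↔
        ClSub.IsProperOver j (sectSupp F (EtCoh.top X) s) := by
      constructor
      · rintro ⟨hZ, hp⟩
        refine ⟨hZ, ?_⟩
        have : IsProper (GrothLib.ProperOver.redι (sectSupp F (EtCoh.top X) s) hZ ≫ j ≫ pb) := hp
        rw [← Category.assoc] at this
        exact IsProper.of_comp _ pb
      · rintro ⟨hZ, hp⟩
        refine ⟨hZ, ?_⟩
        have : IsProper (GrothLib.ProperOver.redι (sectSupp F (EtCoh.top X) s) hZ ≫ j) := hp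
        change IsProper (GrothLib.ProperOver.redι (sectSupp F (EtCoh.top X) s) hZ ≫ j ≫ pb)
        rw [← Category.assoc]
        infer_instance
    rw [h1]
    constructor
    · exact GrothLib.ProperOver.isProperOver_preimage (prV j (EtCoh.top Xb)) j ε.hom.left hε
    · intro hp
      have := GrothLib.ProperOver.isProperOver_preimage j (prV j (EtCoh.top Xb)) ε.inv.left hi hp
      rwa [← Set.preimage_comp, ← TopCat.coe_comp, ← Scheme.Hom.comp_base,
        show ε.inv.left ≫ ε.hom.left = 𝟙 _ from congrArg (fun k => k.left) ε.inv_hom_id] at this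
  let e₀ : H0c (j ≫ pb) F →+ shriekSubgroup j F (EtCoh.top Xb) :=
    ((F.obj.map ε.hom.op).hom.comp (H0c (j ≫ pb) F).subtype).codRestrict _ fun s => (key s.1).1 s.2
  have hb : Function.Bijective e₀ := by
    refine ⟨fun a b h => Subtype.ext ((ConcreteCategory.bijective_of_isIso (F.obj.map ε.hom.op)).1
      (congrArg Subtype.val h)), fun t => ?_⟩
    obtain ⟨s, hs⟩ := (ConcreteCategory.bijective_of_isIso (F.obj.map ε.hom.op)).2 t.1
    exact ⟨⟨s, (key s).2 (hs.symm ▸ t.2)⟩, Subtype.ext hs⟩
  let g : (extZero j).obj F ≅ (Sh j).obj F := (asIso (toSh j)).app F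
  exact ⟨(AddEquiv.ofBijective e₀ hb).trans
    ((((sheafToPresheaf Xb.smallEtaleTopology AddCommGrpCat.{u + 1}).mapIso g).app
      (op (EtCoh.top Xb))).addCommGroupIsoToAddEquiv).symm⟩

end GrothLib.EtShriek
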