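import Groth.Agent.Lib.EtShriek.Points
import Groth.Agent.Lib.EtSite.IntegralPush
import Groth.Agent.Lib.EtBasicB.SheafCriterion
import Groth.Agent.Lib.EtBasicB.OverField
import Mathlib.AlgebraicGeometry.Morphisms.FlatMono

/-!
# Isolating a geometric point of a separated locally quasi-finite morphism
-/

set_option autoImplicit false
set_option backward.isDefEq.respectTransparency false
universe u

open CategoryTheory CategoryTheory.Limits AlgebraicGeometry Opposite
open GrothLib.EtSite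

noncomputable section

namespace GrothLib.EtShriek

variable {X Y : Scheme.{u}}

/-- A finite etale map with no doubled points over a closed-complement is an open and closed
immersion there. -/
theorem mono_of_diag {O A O' A' : Scheme.{u}} (φ : O ⟶ A) [Etale φ] {a : A' ⟶ A} {b : O' ⟶ O}
    {φ' : O' ⟶ A'} (sq : IsPullback b φ' φ a)
    (h : ∀ z : (pullback φ φ : Scheme.{u}), φ.base ((pullback.fst φ φ).base z) ∈ Set.range a.base →
      z ∈ Set.range (pullback.diagonal φ).base) : Mono φ' := by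
  refine ⟨fun {S} x y hxy => ?_⟩
  have e : (x ≫ b) ≫ φ = (y ≫ b) ≫ φ := by
    rw [Category.assoc, Category.assoc, sq.w, ← Category.assoc, ← Category.assoc, hxy]
  let c : S ⟶ pullback φ φ := pullback.lift (x ≫ b) (y ≫ b) e
  have hc : Set.range c.base ⊆ Set.range (pullback.diagonal φ).base := by
    rintro _ ⟨s, rfl⟩
    refine h _ ⟨(x ≫ φ').base s, ?_⟩
    rw [← Scheme.Hom.comp_apply, ← Scheme.Hom.comp_apply, ← Scheme.Hom.comp_apply,
      pullback.lift_fst_assoc, Category.assoc, Category.assoc, sq.w]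
  let l := IsOpenImmersion.lift (pullback.diagonal φ) c hc
  have hl : l ≫ pullback.diagonal φ = c := IsOpenImmersion.lift_fac _ _ _
  have h1 : x ≫ b = l := by
    have := congrArg (· ≫ pullback.fst φ φ) hl
    simp only [Category.assoc, pullback.diagonal_fst, Category.comp_id, c, pullback.lift_fst] at this
    exact this.symm
  have h2 : y ≫ b = l := by
    have := congrArg (· ≫ pullback.snd φ φ) hl
    simp only [Category.assoc, pullback.diagonal_snd, Category.comp_id, c, pullback.lift_snd] at this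
    exact this.symm
  exact sq.hom_ext (h1.trans h2.symm) hxy

variable {Ω : Type u} [Field Ω] [IsAlgClosed Ω] {η : Spec (CommRingCat.of Ω) ⟶ Y}

theorem exists_isolating (f : X ⟶ Y) [IsSeparated f] [LocallyOfFiniteType f] [LocallyQuasiFinite f]
    (ξ : Spec (CommRingCat.of Ω) ⟶ X) (hξ : ξ ≫ f = η) (W : X.Etale)
    (w : (Scheme.pointSmallEtale ξ).fiber.obj W) :
    ∃ (V : Y.Etale) (t : (Scheme.pointSmallEtale η).fiber.obj V)
      (O : ((EtCoh.bc f).obj V).left.Opens)
      (k : opensObj ((EtCoh.bc f).obj V) O ⟶ W)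
      (p : (Scheme.pointSmallEtale ξ).fiber.obj (opensObj ((EtCoh.bc f).obj V) O)),
      IsClosed (O : Set ((EtCoh.bc f).obj V).left) ∧ IsProper (O.ι ≫ EtShriek.prV f V) ∧
      (Scheme.pointSmallEtale ξ).fiber.map (opensHom _ O) p = liftPt f t ξ hξ ∧
      (Scheme.pointSmallEtale ξ).fiber.map k p = w ∧
      ∀ (ξ' : Spec (CommRingCat.of Ω) ⟶ X) (hξ' : ξ' ≫ f = η),
        (liftPt f t ξ' hξ').left.base (default : Spec (CommRingCat.of Ω)) ∈ O → ξ' = ξ := by
  classical
  -- an affine neighbourhood of the given point of `W`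
  let wl₀ : Spec (CommRingCat.of Ω) ⟶ W.left := w.left
  obtain ⟨_, ⟨W₀, hW₀, rfl⟩, hwW₀, -⟩ := W.left.isBasis_affineOpens.exists_subset_of_mem_open
    (Set.mem_univ (wl₀.base default)) isOpen_univ
  let W₁ : W.left.Opens := W₀
  let W₀i : W₁.toScheme ⟶ W.left := Scheme.Opens.ι W₁
  have : IsOpenImmersion W₀i := Scheme.Opens.instIsOpenImmersionι W₀
  have hwr : Set.range wl₀.base ⊆ Set.range W₀i.base := by
    rintro _ ⟨a, rfl⟩
    rw [Subsingleton.elim a default, Scheme.Opens.range_ι]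
    exact hwW₀
  let wl : Spec (CommRingCat.of Ω) ⟶ W₁.toScheme := IsOpenImmersion.lift W₀i wl₀ hwr
  have hwl : wl ≫ W₀i = wl₀ := IsOpenImmersion.lift_fac _ _ _
  have : Etale (W.hom : W.left ⟶ X) := W.prop
  have : IsAffine W₁.toScheme := hW₀
  let gW : W₁.toScheme ⟶ X := W₀i ≫ W.hom
  let h : W₁.toScheme ⟶ Y := gW ≫ f
  have : IsSeparated h := by
    have : IsSeparated (h ≫ terminal.from Y) := by
      rw [terminal.comp_from]
      infer_instance
    exact IsSeparated.of_comp h (terminal.from Y)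
  have : LocallyQuasiFinite gW := GrothLib.EtBasicB.locallyQuasiFinite_of_unramified gW
  have hwη : wl ≫ h = η := by
    change wl ≫ (W₀i ≫ W.hom) ≫ f = η
    rw [← Category.assoc, ← Category.assoc, hwl]
    exact (congrArg (· ≫ f) (Over.w w)).trans hξ
  -- the finite piece
  obtain ⟨U, g, hg, -, P, P', v, -, hfin, hv⟩ := exists_etale_isCompl_of_quasiFiniteAt h
    (x := wl.base default) rfl (h.quasiFiniteAt _)
  let Pi' : P.toScheme ⟶ pullback h g := Scheme.Opens.ι P
  have : IsOpenImmersion Pi' := Scheme.Opens.instIsOpenImmersionι P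
  let π : P.toScheme ⟶ U := Pi' ≫ pullback.snd h g
  have : IsFinite π := hfin
  have : Etale (pullback.fst h g) := MorphismProperty.pullback_fst h g hg
  let q : P.toScheme ⟶ W₁.toScheme := Pi' ≫ pullback.fst h g
  have : Etale q := inferInstanceAs (Etale (Pi' ≫ pullback.fst h g))
  obtain ⟨τ', hτ'⟩ := exists_fib wl (U := Scheme.Etale.mk q) v (by exact hv)
  let τ : Spec (CommRingCat.of Ω) ⟶ P.toScheme := τ'.left
  have hτ : τ ≫ q = wl := Over.w τ'
  let t₁ : Spec (CommRingCat.of Ω) ⟶ U := τ ≫ π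
  have hπg : π ≫ g = q ≫ h := by
    change (Pi' ≫ pullback.snd h g) ≫ g = (Pi' ≫ pullback.fst h g) ≫ h
    rw [Category.assoc, Category.assoc, pullback.condition]
  have ht₁ : t₁ ≫ g = η := by
    change (τ ≫ π) ≫ g = η
    rw [Category.assoc, hπg, ← Category.assoc, hτ, hwη]
  -- separate the chosen point from the other points over it
  have := finite_points_over π t₁
  let T : ULift.{u} Bool → Scheme.{u} := fun _ => P.toScheme
  let G : (∐ T) ⟶ P.toScheme := Sigma.desc fun _ => 𝟙 _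
  have : Etale G := IsZariskiLocalAtSource.sigmaDesc fun _ => (inferInstance : Etale (𝟙 P.toScheme))
  let ω : {σ : Spec (CommRingCat.of Ω) ⟶ P.toScheme // σ ≫ π = t₁} → (Spec (CommRingCat.of Ω) ⟶ ∐ T) :=
    fun σ => σ.1 ≫ Sigma.ι T ⟨decide (σ.1 = τ)⟩
  have hG : ∀ b, Sigma.ι T b ≫ G = 𝟙 _ := fun b => Sigma.ι_desc _ b
  obtain ⟨U', t', ht', r, hr, hω⟩ := exists_nbhd_section π t₁ G
    (fun x _ => ⟨(Sigma.ι T ⟨true⟩).base x, by rw [← Scheme.Hom.comp_apply, hG]; rfl⟩)
    (fun σ : {σ : Spec (CommRingCat.of Ω) ⟶ P.toScheme // σ ≫ π = t₁} => σ.1) (fun σ => σ.2)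
    Subtype.val_injective ω (fun σ => by rw [Category.assoc, hG, Category.comp_id])
  let T' := pullback U'.hom π
  let π' : T' ⟶ U'.left := pullback.fst U'.hom π
  let s' : T' ⟶ P.toScheme := pullback.snd U'.hom π
  have : IsFinite π' := MorphismProperty.pullback_fst U'.hom π ‹_›
  have : Etale s' := MorphismProperty.pullback_snd U'.hom π U'.prop
  let O₀ : T'.Opens := r ⁻¹ᵁ (Sigma.ι T ⟨true⟩).opensRange
  let O₀i : O₀.toScheme ⟶ T' := Scheme.Opens.ι O₀
  have : IsOpenImmersion O₀i := Scheme.Opens.instIsOpenImmersionι O₀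
  have hO₀c : IsClosed (O₀ : Set T') := by
    have : (O₀ : Set T') = (r.base ⁻¹' Set.range (Sigma.ι T ⟨false⟩).base)ᶜ := by
      ext x
      obtain ⟨⟨⟨b⟩, z⟩, hz⟩ := (sigmaMk T).surjective (r.base x)
      rw [sigmaMk_mk] at hz
      have hd : ∀ {a : ULift.{u} Bool} {c : ULift.{u} Bool}, a ≠ c → ∀ y,
          y ∈ Set.range (Sigma.ι T a).base → y ∈ Set.range (Sigma.ι T c).base → False :=
        fun hac y h1 h2 => ((disjoint_opensRange_sigmaι T _ _ hac).le_bot ⟨h1, h2⟩).elim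
      constructor
      · exact fun hx hx' => hd (by simp) _ hx hx'
      · intro hx
        cases b
        · exact absurd ⟨z, hz⟩ hx
        · exact ⟨z, hz⟩
    rw [this]
    exact ((Sigma.ι T ⟨false⟩).opensRange.2.preimage r.continuous).isClosed_compl
  have : IsClosedImmersion O₀i := .of_isPreimmersion _ (by rw [Scheme.Opens.range_ι]; exact hO₀c)
  have hpts : ∀ σ' : Spec (CommRingCat.of Ω) ⟶ T', σ' ≫ π' = t' → σ'.base default ∈ O₀ →
      σ' ≫ s' = τ := by
    intro σ' hσ' hmem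
    let σ : {σ : Spec (CommRingCat.of Ω) ⟶ P.toScheme // σ ≫ π = t₁} :=
      ⟨σ' ≫ s', by rw [Category.assoc, ← pullback.condition, ← Category.assoc, hσ', ht']⟩
    have e : σ' = pullback.lift t' σ.1 (ht'.trans σ.2.symm) :=
      pullback.hom_ext (hσ'.trans (pullback.lift_fst _ _ _).symm) (pullback.lift_snd _ _ _).symm
    by_contra hne
    have h1 : σ' ≫ r = σ.1 ≫ Sigma.ι T ⟨false⟩ := by
      rw [e, hω σ]
      change σ.1 ≫ Sigma.ι T ⟨decide (σ.1 = τ)⟩ = _
      rw [decide_eq_false (show ¬σ.1 = τ from hne)]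
    refine ((disjoint_opensRange_sigmaι T ⟨true⟩ ⟨false⟩ (by simp)).le_bot
      (x := r.base (σ'.base default)) ⟨hmem, ?_⟩).elim
    rw [← Scheme.Hom.comp_apply, h1, Scheme.Hom.comp_apply]
    exact ⟨_, rfl⟩
  let τT : Spec (CommRingCat.of Ω) ⟶ T' := pullback.lift t' τ (ht'.trans rfl)
  have hτT : τT.base default ∈ O₀ := by
    have h1 : τT ≫ r = τ ≫ Sigma.ι T ⟨true⟩ := by
      refine (hω ⟨τ, rfl⟩).trans ?_
      change τ ≫ Sigma.ι T ⟨decide (τ = τ)⟩ = _
      rw [decide_eq_true rfl]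
    change r.base (τT.base default) ∈ Set.range (Sigma.ι T ⟨true⟩).base
    rw [← Scheme.Hom.comp_apply, h1, Scheme.Hom.comp_apply]
    exact ⟨_, rfl⟩
  -- the map to the base change
  have : Etale g := hg
  have : Etale (U'.hom : U'.left ⟶ U) := U'.prop
  let V₀ : Y.Etale := Scheme.Etale.mk ((U'.hom : U'.left ⟶ U) ≫ g)
  let gO : O₀.toScheme ⟶ X := O₀i ≫ s' ≫ q ≫ gW
  let πO : O₀.toScheme ⟶ U'.left := O₀i ≫ π'
  have hcond : πO ≫ (U'.hom : U'.left ⟶ U) ≫ g = gO ≫ f := by
    change (O₀i ≫ π') ≫ U'.hom ≫ g = (O₀i ≫ s' ≫ q ≫ gW) ≫ f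
    rw [Category.assoc, Category.assoc O₀i, pullback.condition_assoc, hπg]
    rfl
  let φ : O₀.toScheme ⟶ ((EtCoh.bc f).obj V₀).left := pullback.lift πO gO hcond
  have hφ1 : φ ≫ EtShriek.prV f V₀ = πO := pullback.lift_fst _ _ _
  have : IsFinite (φ ≫ EtShriek.prV f V₀) := by rw [hφ1]; exact inferInstanceAs (IsFinite (O₀i ≫ π'))
  have : IsSeparated (EtShriek.prV f V₀) := MorphismProperty.pullback_fst _ _ inferInstance
  have : IsFinite φ := IsFinite.of_comp φ (EtShriek.prV f V₀)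
  have : Etale (((EtCoh.bc f).obj V₀).hom : ((EtCoh.bc f).obj V₀).left ⟶ X) := ((EtCoh.bc f).obj V₀).prop
  have : Etale φ := by
    have : Etale (φ ≫ (((EtCoh.bc f).obj V₀).hom : ((EtCoh.bc f).obj V₀).left ⟶ X)) := by
      change Etale (φ ≫ pullback.snd V₀.hom f)
      rw [pullback.lift_snd]
      infer_instance
    exact Etale.of_comp φ (((EtCoh.bc f).obj V₀).hom : ((EtCoh.bc f).obj V₀).left ⟶ X)
  have hpt : ∀ a : Spec (CommRingCat.of Ω) ⟶ O₀.toScheme, a ≫ πO = t' → a ≫ O₀i = τT := by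
    intro a ha
    have h1 : (a ≫ O₀i) ≫ π' = t' := (Category.assoc _ _ _).trans ha
    have h2 : (a ≫ O₀i).base default ∈ O₀ := by
      rw [Scheme.Hom.comp_apply]
      exact (a.base default).2
    exact pullback.hom_ext (h1.trans (pullback.lift_fst _ _ _).symm)
      ((hpts _ h1 h2).trans (pullback.lift_snd _ _ _).symm)
  -- remove the image of the doubled points
  let ρ : (pullback φ φ : Scheme.{u}) ⟶ U'.left := pullback.fst φ φ ≫ πO
  have : IsFinite ρ := inferInstanceAs (IsFinite (pullback.fst φ φ ≫ O₀i ≫ π'))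
  let D : Set (pullback φ φ : Scheme.{u}) := (Set.range (pullback.diagonal φ).base)ᶜ
  have hD : IsClosed D := (pullback.diagonal φ).isOpenEmbedding.isOpen_range.isClosed_compl
  let Vo : U'.left.Opens := ⟨(ρ.base '' D)ᶜ, (ρ.isClosedMap D hD).isOpen_compl⟩
  have hVo : t'.base default ∈ Vo := by
    rintro ⟨d, hd, hdt⟩
    obtain ⟨σ, hσ, hσd⟩ := exists_geom_lift ρ t' d hdt
    have ea := hpt (σ ≫ pullback.fst φ φ) ((Category.assoc _ _ _).trans hσ)
    have eb := hpt (σ ≫ pullback.snd φ φ) (by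
      rw [Category.assoc, ← hφ1, ← pullback.condition_assoc, hφ1]
      exact hσ)
    refine hd ⟨(σ ≫ pullback.fst φ φ).base default, ?_⟩
    rw [← hσd, ← Scheme.Hom.comp_apply]
    refine congrArg (fun m : Spec (CommRingCat.of Ω) ⟶ _ => m.base default) ?_
    apply pullback.hom_ext
    · rw [Category.assoc, pullback.diagonal_fst, Category.comp_id]
    · rw [Category.assoc, pullback.diagonal_snd, Category.comp_id]
      exact (cancel_mono O₀i).1 (ea.trans eb.symm)
  let t₀f : (Scheme.pointSmallEtale η).fiber.obj V₀ :=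
    fib η (U := V₀) t' ((Category.assoc _ _ _).symm.trans ((congrArg (· ≫ g) ht').trans ht₁))
  let V : Y.Etale := opensObj V₀ Vo
  let e : V ⟶ V₀ := opensHom V₀ Vo
  obtain ⟨t, hte, -⟩ := GrothLib.EtBasicB.exists_fib_lift η e t₀f (⟨t'.base default, hVo⟩ : Vo) rfl
  let e' := (EtCoh.bc f).map e
  have sqe := EtCoh.isPullback_bc_map f e
  let O' := pullback φ e'.left
  let φ' : O' ⟶ ((EtCoh.bc f).obj V).left := pullback.snd φ e'.left
  let b : O' ⟶ O₀.toScheme := pullback.fst φ e'.left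
  have sq : IsPullback b φ' φ e'.left := IsPullback.of_hasPullback φ e'.left
  have : IsFinite φ' := MorphismProperty.pullback_snd φ e'.left ‹_›
  have : Etale φ' := MorphismProperty.pullback_snd φ e'.left ‹_›
  have : Mono φ' := mono_of_diag φ sq fun z hz => by
    obtain ⟨a, ha⟩ := hz
    by_contra hc
    have hmem : e.left.base ((EtShriek.prV f V).base a) ∈ Vo := ((EtShriek.prV f V).base a).2
    refine hmem ⟨z, hc, ?_⟩
    change (pullback.fst φ φ ≫ πO).base z = _
    rw [← hφ1, Scheme.Hom.comp_apply, Scheme.Hom.comp_apply, ← ha, ← Scheme.Hom.comp_apply,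
      sqe.w, Scheme.Hom.comp_apply]
    rfl
  have : IsOpenImmersion φ' := IsOpenImmersion.of_flat_of_mono φ'
  have sq2 : IsPullback b (φ' ≫ EtShriek.prV f V) (φ ≫ EtShriek.prV f V₀) e.left := sq.paste_vert sqe
  have : IsFinite (φ' ≫ EtShriek.prV f V) := MorphismProperty.of_isPullback (P := @IsFinite) sq2 ‹_›
  let O : ((EtCoh.bc f).obj V).left.Opens := φ'.opensRange
  have hOp : IsProper (O.ι ≫ EtShriek.prV f V) := by
    rw [show O.ι = φ'.isoOpensRange.inv ≫ φ' from φ'.isoOpensRange_inv_comp.symm, Category.assoc]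
    infer_instance
  let k₀ : O' ⟶ W.left := b ≫ O₀i ≫ s' ≫ q ≫ W₀i
  have hk₀ : k₀ ≫ W.hom = φ' ≫ ((EtCoh.bc f).obj V).hom := by
    refine Eq.trans ?_ (congrArg (φ' ≫ ·) (Over.w e'.hom))
    change (b ≫ O₀i ≫ s' ≫ q ≫ W₀i) ≫ W.hom = φ' ≫ e'.left ≫ pullback.snd V₀.hom f
    rw [← sq.w_assoc, pullback.lift_snd]
    simp only [gO, gW, Category.assoc]
  let k : opensObj ((EtCoh.bc f).obj V) O ⟶ W :=
    MorphismProperty.Over.homMk (φ'.isoOpensRange.inv ≫ k₀) (by
      change (φ'.isoOpensRange.inv ≫ k₀) ≫ W.hom = O.ι ≫ ((EtCoh.bc f).obj V).hom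
      rw [Category.assoc, hk₀, ← Category.assoc, φ'.isoOpensRange_inv_comp])
  let lp : Spec (CommRingCat.of Ω) ⟶ ((EtCoh.bc f).obj V).left := (liftPt f t ξ hξ).left
  have hlp : lp ≫ e'.left = (liftPt f t₀f ξ hξ).left :=
    congrArg CommaMorphism.left ((map_bc_liftPt f e t ξ hξ).trans
      (congrArg (fun t => liftPt f t ξ hξ) hte))
  let τO : Spec (CommRingCat.of Ω) ⟶ O₀.toScheme := IsOpenImmersion.lift O₀i τT (by
    rintro _ ⟨a, rfl⟩
    rw [Subsingleton.elim a default, Scheme.Opens.range_ι]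
    exact hτT)
  have hτO : τO ≫ O₀i = τT := IsOpenImmersion.lift_fac _ _ _
  have hτOπ : τO ≫ πO = t' := by
    change τO ≫ O₀i ≫ π' = t'
    rw [← Category.assoc, hτO, pullback.lift_fst]
  have hτq : τT ≫ s' ≫ q ≫ W₀i = wl₀ := by
    rw [← Category.assoc, pullback.lift_snd, ← Category.assoc, hτ, hwl]
  have hτgO : τO ≫ gO = ξ := by
    change τO ≫ O₀i ≫ s' ≫ q ≫ W₀i ≫ W.hom = ξ
    rw [← Category.assoc τO, hτO]
    have := congrArg (· ≫ W.hom) hτq
    simp only [Category.assoc] at this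
    exact this.trans (Over.w w)
  have hτφ : τO ≫ φ = (liftPt f t₀f ξ hξ).left := by
    apply pullback.hom_ext
    · rw [Category.assoc, pullback.lift_fst, hτOπ]
      exact (pullback.lift_fst _ _ _).symm
    · rw [Category.assoc, pullback.lift_snd, hτgO]
      exact (pullback.lift_snd _ _ _).symm
  let τ' : Spec (CommRingCat.of Ω) ⟶ O' := sq.lift τO lp (hτφ.trans hlp.symm)
  have hτ'1 : τ' ≫ φ' = lp := sq.lift_snd _ _ _
  have hp : (τ' ≫ φ'.isoOpensRange.hom) ≫ O.ι = lp := by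
    rw [Category.assoc, φ'.isoOpensRange_hom_ι, hτ'1]
  let p : (Scheme.pointSmallEtale ξ).fiber.obj (opensObj ((EtCoh.bc f).obj V) O) :=
    fib ξ (U := opensObj _ O) (τ' ≫ φ'.isoOpensRange.hom)
      ((Category.assoc _ _ _).symm.trans ((congrArg (· ≫ ((EtCoh.bc f).obj V).hom) hp).trans
        (Over.w (liftPt f t ξ hξ))))
  refine ⟨V, t, O, k, p, ?_, hOp, Over.OverMorphism.ext hp, Over.OverMorphism.ext ?_, ?_⟩
  · exact φ'.isClosedMap.isClosed_range
  · change (τ' ≫ φ'.isoOpensRange.hom) ≫ φ'.isoOpensRange.inv ≫ k₀ = wl₀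
    rw [Category.assoc, Iso.hom_inv_id_assoc]
    change τ' ≫ b ≫ O₀i ≫ s' ≫ q ≫ W₀i = wl₀
    rw [← Category.assoc τ', sq.lift_fst, ← Category.assoc τO, hτO]
    exact hτq
  · intro ξ' hξ' hmem
    let lp' : Spec (CommRingCat.of Ω) ⟶ ((EtCoh.bc f).obj V).left := (liftPt f t ξ' hξ').left
    let σ : Spec (CommRingCat.of Ω) ⟶ O' := IsOpenImmersion.lift φ' lp' (by
      rintro _ ⟨a, rfl⟩
      rw [Subsingleton.elim a default]
      exact hmem)
    have hσ : σ ≫ φ' = lp' := IsOpenImmersion.lift_fac _ _ _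
    have hσb : (σ ≫ b) ≫ φ = (liftPt f t₀f ξ' hξ').left := by
      rw [Category.assoc, sq.w, ← Category.assoc, hσ]
      exact congrArg CommaMorphism.left ((map_bc_liftPt f e t ξ' hξ').trans
        (congrArg (fun t => liftPt f t ξ' hξ') hte))
    have h1 : (σ ≫ b) ≫ πO = t' := by
      rw [← hφ1, ← Category.assoc, hσb]
      exact pullback.lift_fst _ _ _
    have h2 : (σ ≫ b) ≫ O₀i = τO ≫ O₀i := (hpt _ h1).trans hτO.symm
    have h3 : σ ≫ b = τO := (cancel_mono O₀i).1 h2
    refine liftPt_left_injective f t₀f (hξ := hξ') (hξ' := hξ) ?_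
    rw [← hσb, h3, hτφ]

end GrothLib.EtShriek
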