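import Groth.Agent.Lib.EtShriek.Functor
import Groth.Agent.Lib.EtSite.PushStalk
import Mathlib.AlgebraicGeometry.ZariskisMainTheorem

/-!
# Geometric points and the stalks of sections with proper support
-/

set_option autoImplicit false
set_option backward.isDefEq.respectTransparency false
universe u

open CategoryTheory CategoryTheory.Limits AlgebraicGeometry Opposite
open EtShriek GrothLib.EtSite

noncomputable section

namespace GrothLib.EtShriek

variable {X Y : Scheme.{u}} {Ω : Type u} [Field Ω]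

/-- Points of a scheme finite over a base lift to geometric points. -/
theorem exists_geom_lift [IsAlgClosed Ω] {T V : Scheme.{u}} (h : T ⟶ V) [IsFinite h]
    (t₀ : Spec (CommRingCat.of Ω) ⟶ V) (x : T)
    (hx : h.base x = t₀.base (default : Spec (CommRingCat.of Ω))) :
    ∃ τ : Spec (CommRingCat.of Ω) ⟶ T, τ ≫ h = t₀ ∧ τ.base default = x := by
  let t : (Scheme.pointSmallEtale t₀).fiber.obj (EtCoh.top V) :=
    fib t₀ (U := EtCoh.top V) t₀ (Category.comp_id _)
  obtain ⟨z, hz1, hz2⟩ := Scheme.Pullback.exists_preimage_pullback (f := (EtCoh.top V).hom) (g := h)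
    (t₀.base default : (EtCoh.top V).left) x hx.symm
  obtain ⟨τ, hτ, hl⟩ := exists_liftPt h t z hz1
  refine ⟨τ, hτ, ?_⟩
  have e : (liftPt h t τ hτ).left ≫ pullback.snd (EtCoh.top V).hom h = τ := pullback.lift_snd _ _ _
  rw [← e, Scheme.Hom.comp_apply]
  exact (congrArg _ hl).trans hz2

variable [IsSepClosed Ω] {η : Spec (CommRingCat.of Ω) ⟶ Y}

theorem liftPt_left_injective (f : X ⟶ Y) {U : Y.Etale} (t : (Scheme.pointSmallEtale η).fiber.obj U)
    {ξ ξ' : Spec (CommRingCat.of Ω) ⟶ X} {hξ : ξ ≫ f = η} {hξ' : ξ' ≫ f = η}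
    (h : (liftPt f t ξ hξ).left = (liftPt f t ξ' hξ').left) : ξ = ξ' :=
  ((pullback.lift_snd _ _ _).symm.trans (congrArg (· ≫ pullback.snd U.hom f) h)).trans
    (pullback.lift_snd _ _ _)

variable (f : X ⟶ Y) [LocallyOfFiniteType f]

/-- Evaluation of the stalk of the sections with proper support at a point over `η`. -/
def stalkEv (ξ : Spec (CommRingCat.of Ω) ⟶ X) (hξ : ξ ≫ f = η) (F : EtCoh.Ab X) :
    (EtCoh.stalk η).obj ((Sh f).obj F) ⟶ (EtCoh.stalk ξ).obj F :=
  (EtCoh.stalk η).map ((ι f).app F) ≫ ev f ξ hξ F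

theorem stalkEv_germ (ξ : Spec (CommRingCat.of Ω) ⟶ X) (hξ : ξ ≫ f = η) (F : EtCoh.Ab X)
    {U : Y.Etale} (t : (Scheme.pointSmallEtale η).fiber.obj U) (p : EtCoh.sect ((Sh f).obj F) U) :
    stalkEv f ξ hξ F (germ η ((Sh f).obj F) t p) =
      germ ξ F (liftPt f t ξ hξ) (((ι f).app F).hom.app (op U) p) :=
  (congrArg (ev f ξ hξ F) (stalk_map_germ η ((ι f).app F) t p)).trans (ev_germ f ξ hξ F t _)

theorem stalkEv_naturality (ξ : Spec (CommRingCat.of Ω) ⟶ X) (hξ : ξ ≫ f = η) {F G : EtCoh.Ab X}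
    (a : F ⟶ G) (x : (EtCoh.stalk η).obj ((Sh f).obj F)) :
    stalkEv f ξ hξ G ((EtCoh.stalk η).map ((Sh f).map a) x) =
      (EtCoh.stalk ξ).map a (stalkEv f ξ hξ F x) := by
  obtain ⟨U, t, p, rfl⟩ := exists_germ η _ x
  refine (congrArg (stalkEv f ξ hξ G) (stalk_map_germ η _ t p)).trans ?_
  refine (stalkEv_germ f ξ hξ G t _).trans ?_
  refine Eq.trans ?_ (congrArg ((EtCoh.stalk ξ).map a) (stalkEv_germ f ξ hξ F t p)).symm
  exact (stalk_map_germ ξ a (liftPt f t ξ hξ) _).symm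

/-- Only finitely many points over `η` see a section with proper support, if its support is finite
over the base. -/
theorem isFinite_redι_prV [LocallyQuasiFinite f] {F : EtCoh.Ab X} {U : Y.Etale}
    {s : EtCoh.sect F ((EtCoh.bc f).obj U)}
    (h : ClSub.IsProperOver (prV f U) (sectSupp F _ s)) :
    IsFinite (GrothLib.ProperOver.redι (sectSupp F _ s) h.1 ≫ prV f U) := by
  have : IsProper (GrothLib.ProperOver.redι (sectSupp F _ s) h.1 ≫ prV f U) := h.2
  have : LocallyQuasiFinite (prV f U) := MorphismProperty.pullback_fst _ _ inferInstance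
  exact IsFinite.of_isProper_of_locallyQuasiFinite _

variable [LocallyQuasiFinite f]

theorem finite_support (F : EtCoh.Ab X) (x : (EtCoh.stalk η).obj ((Sh f).obj F)) :
    {ξ : {ξ : Spec (CommRingCat.of Ω) ⟶ X // ξ ≫ f = η} | stalkEv f ξ.1 ξ.2 F x ≠ 0}.Finite := by
  obtain ⟨U, t, p, rfl⟩ := exists_germ η _ x
  let s : EtCoh.sect F ((EtCoh.bc f).obj U) := ((ι f).app F).hom.app (op U) p
  have hZ : ClSub.IsProperOver (prV f U) (sectSupp F _ s) := (mem_range_ι_iff f F U s).1 ⟨p, rfl⟩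
  have := isFinite_redι_prV f hZ
  have := GrothLib.ProperOver.isReduced_red _ hZ.1
  let r := GrothLib.ProperOver.redι (sectSupp F _ s) hZ.1
  have := finite_points_over (r ≫ prV f U) (t.left : Spec (CommRingCat.of Ω) ⟶ U.left)
  have key : ∀ ξ : {ξ : Spec (CommRingCat.of Ω) ⟶ X // ξ ≫ f = η},
      stalkEv f ξ.1 ξ.2 F (germ η ((Sh f).obj F) t p) ≠ 0 →
      ∃ τ : Spec (CommRingCat.of Ω) ⟶ _, τ ≫ r = (liftPt f t ξ.1 ξ.2).left := fun ξ h => by
    rw [stalkEv_germ] at h
    have hm := (GrothLib.EtBasicB.germ_ne_zero_iff ξ.1 F (liftPt f t ξ.1 ξ.2) s).1 h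
    refine GrothLib.ProperOver.exists_lift_redι hZ.1 _ ?_
    rintro _ ⟨a, rfl⟩
    rw [Subsingleton.elim a default]
    exact hm
  choose τ hτ using key
  let Φ : {ξ : {ξ : Spec (CommRingCat.of Ω) ⟶ X // ξ ≫ f = η} |
      stalkEv f ξ.1 ξ.2 F (germ η ((Sh f).obj F) t p) ≠ 0} →
      {σ : Spec (CommRingCat.of Ω) ⟶ _ // σ ≫ r ≫ prV f U = t.left} :=
    fun ξ => ⟨τ ξ.1 ξ.2, by
      rw [← Category.assoc, hτ]
      exact pullback.lift_fst _ _ _⟩
  have hinj : Function.Injective Φ := fun ξ ξ' h => by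
    apply Subtype.ext
    apply Subtype.ext
    refine liftPt_left_injective f t (hξ := ξ.1.2) (hξ' := ξ'.1.2) ?_
    rw [← hτ ξ.1 ξ.2, ← hτ ξ'.1 ξ'.2]
    exact congrArg (fun σ => σ.1 ≫ r) h
  exact Set.finite_coe_iff.1 (Finite.of_injective Φ hinj)

theorem stalkEv_jointly_injective [IsAlgClosed Ω] (F : EtCoh.Ab X)
    (x : (EtCoh.stalk η).obj ((Sh f).obj F)) (h : ∀ ξ hξ, stalkEv f ξ hξ F x = 0) : x = 0 := by
  obtain ⟨U, t, p, rfl⟩ := exists_germ η _ x
  let s : EtCoh.sect F ((EtCoh.bc f).obj U) := ((ι f).app F).hom.app (op U) p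
  have hZ : ClSub.IsProperOver (prV f U) (sectSupp F _ s) := (mem_range_ι_iff f F U s).1 ⟨p, rfl⟩
  have := isFinite_redι_prV f hZ
  let r := GrothLib.ProperOver.redι (sectSupp F _ s) hZ.1
  let t₀ : Spec (CommRingCat.of Ω) ⟶ U.left := t.left
  have hnot : t₀.base default ∉ Set.range (r ≫ prV f U).base := by
    rintro ⟨w, hw⟩
    obtain ⟨τ, hτ, hτw⟩ := exists_geom_lift (r ≫ prV f U) t₀ w hw
    let ξ : Spec (CommRingCat.of Ω) ⟶ X := (τ ≫ r) ≫ pullback.snd U.hom f
    have hτ' : (τ ≫ r) ≫ pullback.fst U.hom f = t₀ := (Category.assoc _ _ _).trans hτ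
    have hξ : ξ ≫ f = η := by
      refine (Category.assoc _ _ _).trans ((congrArg ((τ ≫ r) ≫ ·) pullback.condition.symm).trans ?_)
      exact ((Category.assoc _ _ _).symm.trans (congrArg (· ≫ U.hom) hτ')).trans (Over.w t)
    have e : (liftPt f t ξ hξ).left = τ ≫ r := pullback.hom_ext
      ((pullback.lift_fst _ _ _).trans hτ'.symm) (pullback.lift_snd _ _ _)
    have h0 := h ξ hξ
    rw [stalkEv_germ] at h0
    refine (GrothLib.EtBasicB.germ_ne_zero_iff ξ F (liftPt f t ξ hξ) s).2 ?_ h0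
    refine (congrArg (fun q : Spec (CommRingCat.of Ω) ⟶ ((EtCoh.bc f).obj U).left =>
      q.base default ∈ sectSupp F _ s) e).mpr ?_
    exact (GrothLib.ProperOver.range_redι _ hZ.1).le ⟨τ.base default, rfl⟩
  let W : U.left.Opens := ⟨(Set.range (r ≫ prV f U).base)ᶜ,
    (r ≫ prV f U).isClosedMap.isClosed_range.isOpen_compl⟩
  let e : opensObj U W ⟶ U := opensHom U W
  obtain ⟨t', ht', -⟩ := GrothLib.EtBasicB.exists_fib_lift η e t
    (⟨t₀.base default, hnot⟩ : W) rfl
  rw [← ht', ← germ_map η ((Sh f).obj F) e t' p]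
  refine (congrArg (germ η ((Sh f).obj F) t') ?_).trans (map_zero _)
  apply injective_ι_app f F
  rw [map_zero]
  refine (NatTrans.naturality_apply ((ι f).app F).hom e.op p).trans ?_
  refine section_eq_zero_of_germs F _ _ fun Ω' _ _ ξ' t'' => ?_
  by_contra hne
  have hm := (GrothLib.EtBasicB.germ_ne_zero_iff ξ' F t'' _).1 hne
  change t''.left.base (default : Spec (CommRingCat.of Ω')) ∈ sectSupp F _ (F.obj.map ((EtCoh.bc f).map e).op s) at hm
  rw [sectSupp_map] at hm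
  obtain ⟨w, hw⟩ := (GrothLib.ProperOver.range_redι _ hZ.1).ge hm
  have h1 : (prV f (opensObj U W) ≫ e.left).base (t''.left.base (default : Spec (CommRingCat.of Ω'))) ∈
      Set.range (r ≫ prV f U).base := by
    refine ⟨w, ?_⟩
    rw [← (EtCoh.isPullback_bc_map f e).w, Scheme.Hom.comp_apply, Scheme.Hom.comp_apply]
    exact congrArg (prV f U).base hw
  exact ((prV f (opensObj U W)).base (t''.left.base (default : Spec (CommRingCat.of Ω')))).2 h1

end GrothLib.EtShriek
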