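import Groth.Agent.Lib.EtShriek.Stalk
import Groth.Agent.Lib.EtShriek.ExtZero
import Groth.Agent.Lib.EtTens.Stalk

/-!
# The projection formula for sections with proper support along quasi-finite morphisms
-/

set_option autoImplicit false
set_option backward.isDefEq.respectTransparency false
universe u

open CategoryTheory CategoryTheory.Limits AlgebraicGeometry Opposite
open EtShriek GrothLib.EtSite GrothLib.EtTens
open scoped TensorProduct

noncomputable section

namespace GrothLib.EtShriek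

variable {X Y : Scheme.{u}} (f : X ⟶ Y) [LocallyOfFiniteType f]

/-- A section of the inverse image from a section downstairs. -/
def pullSec (G : EtCoh.Ab Y) (V : Y.Etale) :
    G.obj.obj (op V) ⟶ ((EtCoh.pull f).obj G).obj.obj (op ((EtCoh.bc f).obj V)) :=
  ((EtCoh.pullPushAdj f).unit.app G).hom.app (op V)

theorem pullSec_map (G : EtCoh.Ab Y) {V V' : Y.Etale} (g : V' ⟶ V) (n : EtCoh.sect G V) :
    pullSec f G V' (G.obj.map g.op n) =
      ((EtCoh.pull f).obj G).obj.map ((EtCoh.bc f).map g).op (pullSec f G V n) :=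
  NatTrans.naturality_apply ((EtCoh.pullPushAdj f).unit.app G).hom g.op n

omit [LocallyOfFiniteType f] in
theorem sectSupp_tmulSec_subset {Z : Scheme.{u}} (F H : EtCoh.Ab Z) (U : Z.Etale)
    (m : EtCoh.sect F U) (n : EtCoh.sect H U) :
    sectSupp (T F H) U (tmulSec m n) ⊆ sectSupp F U m := fun x hx W g hw h => by
  refine hx W g hw ?_
  rw [map_tmulSec, h, tmulSec_zero_left]

/-- The pairing of a section with proper support with a section downstairs. -/
def pairSec (F : EtCoh.Ab X) (G : EtCoh.Ab Y) (V : Y.Etale) (p : EtCoh.sect ((Sh f).obj F) V)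
    (n : EtCoh.sect G V) : EtCoh.sect ((Sh f).obj (T F ((EtCoh.pull f).obj G))) V :=
  ⟨tmulSec (((ι f).app F).hom.app (op V) p) (pullSec f G V n),
    (mem_shriekSubgroup_iff' f _ V _).2
      (GrothLib.ProperOver.IsProperOver.subset _ ((mem_range_ι_iff f F V _).1 ⟨p, rfl⟩)
        (isClosed_sectSupp _ _ _) (sectSupp_tmulSec_subset _ _ _ _ _))⟩

theorem pairSec_add_left (F : EtCoh.Ab X) (G : EtCoh.Ab Y) (V : Y.Etale)
    (p p' : EtCoh.sect ((Sh f).obj F) V) (n : EtCoh.sect G V) :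
    pairSec f F G V (p + p') n = pairSec f F G V p n + pairSec f F G V p' n :=
  Subtype.ext ((congrArg (fun z => tmulSec z (pullSec f G V n)) (map_add (((ι f).app F).hom.app (op V)).hom p p')).trans
    (tmulSec_add_left _ _ _))

theorem pairSec_add_right (F : EtCoh.Ab X) (G : EtCoh.Ab Y) (V : Y.Etale)
    (p : EtCoh.sect ((Sh f).obj F) V) (n n' : EtCoh.sect G V) :
    pairSec f F G V p (n + n') = pairSec f F G V p n + pairSec f F G V p n' :=
  Subtype.ext ((congrArg (tmulSec _) (map_add (pullSec f G V).hom n n')).trans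
    (tmulSec_add_right _ _ _))

/-- The pairing, as a map of presheaves. -/
def projPre (F : EtCoh.Ab X) (G : EtCoh.Ab Y) :
    preT ((Sh f).obj F) G ⟶ ((Sh f).obj (T F ((EtCoh.pull f).obj G))).obj where
  app V := AddCommGrpCat.ofHom (TensorProduct.lift (LinearMap.mk₂ ℤ (pairSec f F G V.unop)
    (pairSec_add_left f F G V.unop)
    (fun c a b => map_zsmul (AddMonoidHom.mk' (fun a => pairSec f F G V.unop a b)
      fun a a' => pairSec_add_left f F G V.unop a a' b) c a)
    (pairSec_add_right f F G V.unop)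
    (fun c a b => map_zsmul (AddMonoidHom.mk' (pairSec f F G V.unop a)
      (pairSec_add_right f F G V.unop a)) c b))).toAddMonoidHom
  naturality V V' g := _root_.EtTens.hom_ext_tmul fun p n => by
    change pairSec f F G V'.unop (((Sh f).obj F).obj.map g p) (G.obj.map g n) =
      ((Sh f).obj (T F ((EtCoh.pull f).obj G))).obj.map g (pairSec f F G V.unop p n)
    apply Subtype.ext
    refine Eq.trans ?_ (map_tmulSec ((EtCoh.bc f).map g.unop) _ _).symm
    exact congrArg₂ tmulSec (NatTrans.naturality_apply ((ι f).app F).hom g p)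
      (pullSec_map f G g.unop n)

/-- The projection map. -/
def proj (F : EtCoh.Ab X) (G : EtCoh.Ab Y) :
    T ((Sh f).obj F) G ⟶ (Sh f).obj (T F ((EtCoh.pull f).obj G)) :=
  ⟨sheafifyLift Y.smallEtaleTopology (projPre f F G)
    ((Sh f).obj (T F ((EtCoh.pull f).obj G))).property⟩

theorem proj_tmulSec (F : EtCoh.Ab X) (G : EtCoh.Ab Y) {V : Y.Etale}
    (p : EtCoh.sect ((Sh f).obj F) V) (n : EtCoh.sect G V) :
    (proj f F G).hom.app (op V) (tmulSec p n) = pairSec f F G V p n := by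
  have h : unitT ((Sh f).obj F) G ≫ (proj f F G).hom = projPre f F G :=
    toSheafify_sheafifyLift _ _ _
  exact ConcreteCategory.congr_hom (congr_app h (op V)) (p ⊗ₜ[ℤ] n)

section stalks

variable {Ω : Type u} [Field Ω] [IsAlgClosed Ω] {η : Spec (CommRingCat.of Ω) ⟶ Y}

omit [LocallyOfFiniteType f] in
/-- The comparison of the stalk downstairs with the stalk of the inverse image. -/
def pb (ξ : Spec (CommRingCat.of Ω) ⟶ X) (hξ : ξ ≫ f = η) (G : EtCoh.Ab Y) :
    (EtCoh.stalk η).obj G ⟶ (EtCoh.stalk ξ).obj ((EtCoh.pull f).obj G) :=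
  eqToHom (by rw [hξ]) ≫ (pullStalkIso ξ f).inv.app G

omit [LocallyOfFiniteType f] in
theorem pb_germ (ξ : Spec (CommRingCat.of Ω) ⟶ X) (hξ : ξ ≫ f = η) (G : EtCoh.Ab Y) {U : Y.Etale}
    (t : (Scheme.pointSmallEtale η).fiber.obj U) (n : EtCoh.sect G U) :
    pb f ξ hξ G (germ η G t n) =
      germ ξ ((EtCoh.pull f).obj G) (liftPt f t ξ hξ) (pullSec f G U n) := by
  subst hξ
  have h := germ_unit ξ f G t n
  rw [fiberBcIso_inv_eq_liftPt] at h
  simp only [pb, eqToHom_refl, Category.id_comp]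
  exact h.symm

omit [LocallyOfFiniteType f] in
theorem bijective_pb (ξ : Spec (CommRingCat.of Ω) ⟶ X) (hξ : ξ ≫ f = η) (G : EtCoh.Ab Y) :
    Function.Bijective (pb f ξ hξ G) := by
  subst hξ
  simp only [pb, eqToHom_refl, Category.id_comp]
  exact ConcreteCategory.bijective_of_isIso _

theorem stalkEv_proj (ξ : Spec (CommRingCat.of Ω) ⟶ X) (hξ : ξ ≫ f = η) (F : EtCoh.Ab X)
    (G : EtCoh.Ab Y) (a : (EtCoh.stalk η).obj ((Sh f).obj F)) (b : (EtCoh.stalk η).obj G) :
    stalkEv f ξ hξ (T F ((EtCoh.pull f).obj G))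
        ((EtCoh.stalk η).map (proj f F G) (ofTmul η ((Sh f).obj F) G (a ⊗ₜ[ℤ] b))) =
      ofTmul ξ F ((EtCoh.pull f).obj G) (stalkEv f ξ hξ F a ⊗ₜ[ℤ] pb f ξ hξ G b) := by
  obtain ⟨U, t, p, n, rfl, rfl⟩ := exists_germ₂ η ((Sh f).obj F) G a b
  rw [ofTmul_germ, stalkEv_germ, pb_germ, ofTmul_germ]
  refine (congrArg (stalkEv f ξ hξ _) (stalk_map_germ η (proj f F G) t _)).trans ?_
  rw [proj_tmulSec]
  exact stalkEv_germ f ξ hξ _ t _

variable [IsSeparated f] [LocallyQuasiFinite f] (η)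

theorem bijective_stalk_proj (F : EtCoh.Ab X) (G : EtCoh.Ab Y) :
    Function.Bijective ((EtCoh.stalk η).map (proj f F G)) := by
  classical
  let G' := (EtCoh.pull f).obj G
  let P := {ξ : Spec (CommRingCat.of Ω) ⟶ X // ξ ≫ f = η}
  let Φ := (EtCoh.stalk η).map (proj f F G)
  have hext : ∀ (H : EtCoh.Ab X) (x y : (EtCoh.stalk η).obj ((Sh f).obj H)),
      (∀ ξ : P, stalkEv f ξ.1 ξ.2 H x = stalkEv f ξ.1 ξ.2 H y) → x = y := fun H x y h =>
    sub_eq_zero.1 (stalkEv_jointly_injective f H _ fun ξ hξ => by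
      rw [map_sub, h ⟨ξ, hξ⟩, sub_self])
  choose δ hδ₁ hδ₂ using fun (ξ : P) (a : (EtCoh.stalk ξ.1).obj F) => exists_delta f F ξ.1 ξ.2 a
  have hδne : ∀ (ξ ξ' : P) a, ξ' ≠ ξ → stalkEv f ξ'.1 ξ'.2 F (δ ξ a) = 0 := fun ξ ξ' a h =>
    hδ₂ ξ a ξ'.1 ξ'.2 fun e => h (Subtype.ext e)
  have δadd : ∀ (ξ : P) a b, δ ξ (a + b) = δ ξ a + δ ξ b := fun ξ a b => hext F _ _ fun ξ' => by
    by_cases h : ξ' = ξ
    · subst h; rw [map_add, hδ₁, hδ₁, hδ₁]
    · rw [map_add, hδne ξ ξ' _ h, hδne ξ ξ' _ h, hδne ξ ξ' _ h, add_zero]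
  let E : ∀ ξ : P, (EtCoh.stalk η).obj ((Sh f).obj F) ⊗[ℤ] (EtCoh.stalk η).obj G →ₗ[ℤ]
      (EtCoh.stalk ξ.1).obj F ⊗[ℤ] (EtCoh.stalk η).obj G := fun ξ =>
    (stalkEv f ξ.1 ξ.2 F).hom.toIntLinearMap.rTensor _
  let D : ∀ ξ : P, (EtCoh.stalk ξ.1).obj F ⊗[ℤ] (EtCoh.stalk η).obj G →ₗ[ℤ]
      (EtCoh.stalk η).obj ((Sh f).obj F) ⊗[ℤ] (EtCoh.stalk η).obj G := fun ξ =>
    (AddMonoidHom.mk' (δ ξ) (δadd ξ)).toIntLinearMap.rTensor _
  let B : ∀ ξ : P, (EtCoh.stalk η).obj G ≃ₗ[ℤ] (EtCoh.stalk ξ.1).obj G' := fun ξ =>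
    (AddEquiv.ofBijective (pb f ξ.1 ξ.2 G).hom (bijective_pb f ξ.1 ξ.2 G)).toIntLinearEquiv
  have key : ∀ (ξ : P) x, stalkEv f ξ.1 ξ.2 (T F G') (Φ (ofTmul η _ G x)) =
      ofTmul ξ.1 F G' ((B ξ).lTensor _ (E ξ x)) := fun ξ x => by
    induction x using TensorProduct.induction_on with
    | zero => simp only [map_zero]
    | tmul a b => exact stalkEv_proj f ξ.1 ξ.2 F G a b
    | add a b ha hb => simp only [map_add, ha, hb]
  refine ⟨(injective_iff_map_eq_zero Φ.hom).2 fun z hz => ?_, fun y => ?_⟩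
  · obtain ⟨x, rfl⟩ := (bijective_ofTmul η _ G).surjective z
    have hE : ∀ ξ : P, E ξ x = 0 := fun ξ => by
      refine ((B ξ).lTensor _).injective ((bijective_ofTmul ξ.1 F G').injective ?_)
      rw [← key ξ x, map_zero, map_zero]
      exact (congrArg (stalkEv f ξ.1 ξ.2 (T F G')) hz).trans (map_zero _)
    have hS : ∃ S : Finset P, ∀ S' : Finset P, S ⊆ S' → ∑ ξ ∈ S', D ξ (E ξ x) = x := by
      clear hz hE
      induction x using TensorProduct.induction_on with
      | zero => exact ⟨∅, fun S' _ => by simp only [map_zero, Finset.sum_const_zero]⟩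
      | tmul a b =>
        refine ⟨(finite_support f F a).toFinset, fun S' hS' => ?_⟩
        have ha : ∑ ξ ∈ S', δ ξ (stalkEv f ξ.1 ξ.2 F a) = a := hext F _ _ fun ξ' => by
          rw [map_sum]
          by_cases h : ξ' ∈ S'
          · rw [Finset.sum_eq_single_of_mem ξ' h fun ξ _ hne => hδne ξ ξ' _ (Ne.symm hne), hδ₁]
          · rw [Finset.sum_eq_zero fun ξ hξ => hδne ξ ξ' _ fun e => h (e ▸ hξ)]
            by_contra hne
            exact h (hS' ((Set.Finite.mem_toFinset _).2 (Ne.symm hne)))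
        refine Eq.trans ?_ (congrArg (· ⊗ₜ[ℤ] b) ha)
        rw [TensorProduct.sum_tmul]
        rfl
      | add a b ha hb =>
        obtain ⟨S, hS⟩ := ha
        obtain ⟨S', hS'⟩ := hb
        exact ⟨S ∪ S', fun S'' h => by
          simp only [map_add, Finset.sum_add_distrib, hS S'' (Finset.union_subset_left h),
            hS' S'' (Finset.union_subset_right h)]⟩
    obtain ⟨S, hS⟩ := hS
    rw [← hS S subset_rfl]
    simp only [hE, map_zero, Finset.sum_const_zero]
  · have hone : ∀ (ξ : P) (c : (EtCoh.stalk ξ.1).obj F ⊗[ℤ] (EtCoh.stalk ξ.1).obj G'),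
        ∃ x, stalkEv f ξ.1 ξ.2 (T F G') (Φ x) = ofTmul ξ.1 F G' c ∧
          ∀ ξ' : P, ξ' ≠ ξ → stalkEv f ξ'.1 ξ'.2 (T F G') (Φ x) = 0 := fun ξ c => by
      obtain ⟨d, rfl⟩ := ((B ξ).lTensor _).surjective c
      refine ⟨ofTmul η _ G (D ξ d), ?_, fun ξ' h => ?_⟩
      · rw [key]
        congr 2
        induction d using TensorProduct.induction_on with
        | zero => simp only [map_zero]
        | tmul a b => exact congrArg (· ⊗ₜ[ℤ] b) (hδ₁ ξ a)
        | add a b ha hb => simp only [map_add, ha, hb]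
      · rw [key]
        suffices hED : E ξ' (D ξ d) = 0 by
          simp only [hED, map_zero]
        induction d using TensorProduct.induction_on with
        | zero => simp only [map_zero]
        | tmul a b => exact (congrArg (· ⊗ₜ[ℤ] b) (hδne ξ ξ' a h)).trans (TensorProduct.zero_tmul _ _)
        | add a b ha hb => simp only [map_add, ha, hb, add_zero]
    choose c hc using fun ξ : P =>
      (bijective_ofTmul ξ.1 F G').surjective (stalkEv f ξ.1 ξ.2 (T F G') y)
    choose x hx₁ hx₂ using fun ξ : P => hone ξ (c ξ)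
    refine ⟨∑ ξ ∈ (finite_support f (T F G') y).toFinset, x ξ, hext _ _ _ fun ξ' => ?_⟩
    simp only [map_sum]
    by_cases h : ξ' ∈ (finite_support f (T F G') y).toFinset
    · rw [Finset.sum_eq_single_of_mem ξ' h fun ξ _ hne => hx₂ ξ ξ' (Ne.symm hne)]
      exact (hx₁ ξ').trans (hc ξ')
    · rw [Finset.sum_eq_zero fun ξ hξ => hx₂ ξ ξ' fun e => h (e ▸ hξ)]
      by_contra hne
      exact h ((Set.Finite.mem_toFinset _).2 (Ne.symm hne))

end stalks

variable [IsSeparated f] [LocallyQuasiFinite f]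

theorem isIso_proj (F : EtCoh.Ab X) (G : EtCoh.Ab Y) : IsIso (proj f F G) :=
  isIso_of_stalksAC _ fun Ω _ _ η => bijective_stalk_proj f η F G

theorem nonempty_projection (F : EtCoh.Ab X) (G : EtCoh.Ab Y) :
    Nonempty ((_root_.EtTens.tensorBi.obj ((EtShriek.lowerShriek f).obj F)).obj G ≅
      (EtShriek.lowerShriek f).obj ((_root_.EtTens.tensorBi.obj F).obj ((EtCoh.pull f).obj G))) :=
  have := isIso_proj f F G
  ⟨(_root_.EtTens.tensorBi.mapIso ((lowerShriekIso f).app F)).app G ≪≫ asIso (proj f F G) ≪≫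
    ((lowerShriekIso f).app _).symm⟩

end GrothLib.EtShriek
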