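import Groth.Agent.Lib.EtShriek.Supp

/-!
# The presheaf of sections with proper support is a sheaf
-/

set_option autoImplicit false
set_option backward.isDefEq.respectTransparency false
universe u

open CategoryTheory CategoryTheory.Limits AlgebraicGeometry Opposite
open EtShriek GrothLib.EtSite

namespace GrothLib.EtShriek

variable {X Y : Scheme.{u}} (f : X ⟶ Y) [LocallyOfFiniteType f]

theorem isSheaf_lowerShriekPre (F : EtCoh.Ab X) :
    Presheaf.IsSheaf Y.smallEtaleTopology (lowerShriekPre f F) := by
  rw [Presheaf.isSheaf_iff_isSheaf_forget Y.smallEtaleTopology (lowerShriekPre f F)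
    (CategoryTheory.forget AddCommGrpCat.{u + 1}), isSheaf_iff_isSheaf_of_type]
  intro V R hR x hx
  have hP : Presieve.IsSheaf Y.smallEtaleTopology
      (((EtCoh.push f).obj F).obj ⋙ CategoryTheory.forget AddCommGrpCat.{u + 1}) :=
    (isSheaf_iff_isSheaf_of_type _ _).1 ((Presheaf.isSheaf_iff_isSheaf_forget Y.smallEtaleTopology _
      (CategoryTheory.forget AddCommGrpCat.{u + 1})).1 ((EtCoh.push f).obj F).property)
  let η := Functor.whiskerRight (lowerShriekPreι f F) (CategoryTheory.forget AddCommGrpCat.{u + 1})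
  let x' := Presieve.FamilyOfElements.map x η
  have hx' : x'.Compatible := hx.map η
  obtain ⟨t, ht, hu⟩ := hP R hR x' hx'
  have hmem : (t : EtCoh.sect F ((EtCoh.bc f).obj V)) ∈ shriekSubgroup f F V := by
    rw [mem_shriekSubgroup_iff']
    choose W g w hg hw using (mem_topology_iff R).1 hR
    refine isProperOver_of_cover f F t W g (fun v => ⟨v, w v, hw v⟩) fun v => ?_
    have h1 : F.obj.map ((EtCoh.bc f).map (g v)).op t = (x (g v) (hg v)).1 := ht (g v) (hg v)
    rw [h1]
    exact (mem_shriekSubgroup_iff' f F (W v) _).1 (x (g v) (hg v)).2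
  refine ⟨⟨t, hmem⟩, fun W g hg => Subtype.ext (ht g hg), fun y hy => Subtype.ext ?_⟩
  exact hu y.1 fun W g hg => congrArg Subtype.val (hy g hg)

end GrothLib.EtShriek
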