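import Groth.Agent.Lib.EtShriek.BC3
import Groth.Agent.Lib.EtShriek.H0c
import Groth.Agent.Lib.PropH0.TopStalk

/-!
# Stalks of direct images with proper support as sections with compact support on fibres
-/

set_option autoImplicit false
set_option backward.isDefEq.respectTransparency false
universe u

open CategoryTheory CategoryTheory.Limits AlgebraicGeometry Opposite
open EtShriek GrothLib.EtSite

noncomputable section

namespace GrothLib.EtShriek

/-- Sections with proper support over the final object. -/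
theorem nonempty_sect_top_equiv {X : Scheme.{u}} {k : Type u} [Field k]
    (p : X ⟶ Spec (CommRingCat.of k)) [LocallyOfFiniteType p] (F : EtCoh.Ab X) :
    Nonempty (EtCoh.sect ((Sh p).obj F) (EtCoh.top _) ≃+ H0c p F) := by
  let T := EtCoh.top (Spec (CommRingCat.of k))
  let ε := bcTopIso p
  have hε : ε.hom.left ≫ p = prV p T := by
    change pullback.snd (𝟙 _) p ≫ p = pullback.fst (𝟙 _) p
    rw [← pullback.condition, Category.comp_id]
  have : IsIso ε.hom.left := inferInstanceAs (IsIso (pullback.snd (𝟙 _) p))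
  have hi : ε.inv.left ≫ prV p T = p := by
    rw [← hε, ← Category.assoc]
    exact (congrArg (fun k => k.left ≫ p) ε.inv_hom_id).trans (Category.id_comp _)
  have : IsIso ε.inv.left := ⟨ε.hom.left, congrArg (fun k => k.left) ε.inv_hom_id,
    congrArg (fun k => k.left) ε.hom_inv_id⟩
  have key : ∀ s : EtCoh.sect F (EtCoh.top X),
      s ∈ H0c p F ↔ F.obj.map ε.hom.op s ∈ shriekSubgroup p F T := fun s => by
    rw [mem_H0c_iff, mem_shriekSubgroup_iff', sectSupp_map]
    constructor
    · exact GrothLib.ProperOver.isProperOver_preimage (prV p T) p ε.hom.left hε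
    · intro hp
      have := GrothLib.ProperOver.isProperOver_preimage p (prV p T) ε.inv.left hi hp
      rwa [← Set.preimage_comp, ← TopCat.coe_comp, ← Scheme.Hom.comp_base,
        show ε.inv.left ≫ ε.hom.left = 𝟙 _ from congrArg (fun k => k.left) ε.inv_hom_id] at this
  let e₀ : H0c p F →+ shriekSubgroup p F T :=
    ((F.obj.map ε.hom.op).hom.comp (H0c p F).subtype).codRestrict _ fun s => (key s.1).1 s.2
  have hb : Function.Bijective e₀ := by
    refine ⟨fun a b h => Subtype.ext ((ConcreteCategory.bijective_of_isIso (F.obj.map ε.hom.op)).1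
      (congrArg Subtype.val h)), fun t => ?_⟩
    obtain ⟨s, hs⟩ := (ConcreteCategory.bijective_of_isIso (F.obj.map ε.hom.op)).2 t.1
    exact ⟨⟨s, (key s).2 (hs.symm ▸ t.2)⟩, Subtype.ext hs⟩
  exact ⟨(AddEquiv.ofBijective e₀ hb).symm⟩

/-- The stalk is the group of sections with compact support of the fibre. -/
theorem nonempty_stalk_iso_H0c {X Y : Scheme.{u}} (f : X ⟶ Y) [IsSeparated f] [LocallyOfFiniteType f]
    (F : EtCoh.Ab X) {Ω : Type u} [Field Ω] [IsSepClosed Ω] (η : Spec (CommRingCat.of Ω) ⟶ Y) :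
    Nonempty ((EtCoh.stalk η).obj ((lowerShriek f).obj F) ≅
      AddCommGrpCat.of (H0c (pullback.snd f η) ((EtCoh.pull (pullback.fst f η)).obj F))) := by
  let p := pullback.snd f η
  let F' := (EtCoh.pull (pullback.fst f η)).obj F
  have sq : IsPullback (pullback.fst f η) p f η := IsPullback.of_hasPullback f η
  have : IsSeparated p := MorphismProperty.pullback_snd f η inferInstance
  have : LocallyOfFiniteType p := MorphismProperty.pullback_snd f η inferInstance
  let e₁ : (EtCoh.stalk η).obj ((lowerShriek f).obj F) ≅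
      (EtCoh.stalk (𝟙 (Spec (CommRingCat.of Ω)))).obj ((EtCoh.pull η).obj ((lowerShriek f).obj F)) :=
    eqToIso (by rw [Category.id_comp]) ≪≫ ((pullStalkIso (𝟙 _) η).app _).symm
  let e₂ := (EtCoh.stalk (𝟙 (Spec (CommRingCat.of Ω)))).mapIso
    (lowerShriekBC f η p (pullback.fst f η) sq F ≪≫ (lowerShriekIso p).app F')
  let e₃ : AddCommGrpCat.of (EtCoh.sect ((Sh p).obj F') (EtCoh.top _)) ≅
      (EtCoh.stalk (𝟙 (Spec (CommRingCat.of Ω)))).obj ((Sh p).obj F') :=
    (AddEquiv.ofBijective (germ (𝟙 _) ((Sh p).obj F') (fib (U := EtCoh.top _) (𝟙 _) (𝟙 _) (Category.id_comp _))).hom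
      (GrothLib.PropH0.germ_top_bijective _)).toAddCommGrpIso
  obtain ⟨e₄⟩ := nonempty_sect_top_equiv p F'
  exact ⟨e₁ ≪≫ e₂ ≪≫ e₃.symm ≪≫ e₄.toAddCommGrpIso⟩

end GrothLib.EtShriek
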