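import Groth.Agent.Lib.EtBasicB.Supports
import Groth.Agent.Lib.EtSite.FpqcDescent
import Groth.Agent.Lib.ProperOver.Basic

/-!
# Sections with proper support on the small etale site
-/

set_option autoImplicit false
set_option backward.isDefEq.respectTransparency false
universe u

open CategoryTheory CategoryTheory.Limits AlgebraicGeometry Opposite
open EtShriek GrothLib.EtSite

namespace GrothLib.EtShriek

variable {X Y : Scheme.{u}}

theorem sectSupp_zero (F : EtCoh.Ab X) (U : X.Etale) : sectSupp F U 0 = ∅ := by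
  refine Set.eq_empty_iff_forall_notMem.2 fun x hx => ?_
  exact hx U (𝟙 U) ⟨x, rfl⟩ (map_zero _)

theorem sectSupp_neg (F : EtCoh.Ab X) (U : X.Etale) (s : EtCoh.sect F U) :
    sectSupp F U (-s) = sectSupp F U s := by
  ext x
  constructor <;> intro hx W g hw h
  · exact hx W g hw (by rw [map_neg, h, neg_zero])
  · exact hx W g hw (by rwa [map_neg, neg_eq_zero] at h)

theorem sectSupp_map (F : EtCoh.Ab X) {U W : X.Etale} (g : W ⟶ U) (s : EtCoh.sect F U) :
    sectSupp F W (F.obj.map g.op s) = g.left.base ⁻¹' sectSupp F U s := by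
  ext w
  constructor
  · intro hw W' g' ⟨w', hw'⟩ h
    obtain ⟨t, ht⟩ := exists_fib (gpt (W.hom.base w)) (U := W) w (gpt_default _).symm
    have h0 : (germ _ F t) (F.obj.map g.op s) ≠ 0 := (GrothLib.EtBasicB.germ_ne_zero_iff _ F t _).2
      ((congrArg (fun z => z ∈ sectSupp F W (F.obj.map g.op s)) ht).mpr hw)
    apply h0
    rw [germ_map _ F g t s]
    by_contra h1
    have := (GrothLib.EtBasicB.germ_ne_zero_iff _ F _ s).1 h1
    rw [← base_fiber_map _ g t _ rfl] at this
    exact ((congrArg (fun z => g.left.base z ∈ sectSupp F U s) ht).mp this) W' g' ⟨w', hw'⟩ h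
  · intro hw W' g' ⟨w', hw'⟩ h
    refine hw W' (g' ≫ g) ⟨w', ?_⟩ ?_
    · rw [← hw']; rfl
    · rw [op_comp, Functor.map_comp, ConcreteCategory.comp_apply, h]

theorem sectSupp_add (F : EtCoh.Ab X) (U : X.Etale) (s t : EtCoh.sect F U) :
    sectSupp F U (s + t) ⊆ sectSupp F U s ∪ sectSupp F U t := by
  intro x hx
  by_contra hc
  rw [Set.mem_union, not_or] at hc
  obtain ⟨p, hp⟩ := exists_fib (gpt (U.hom.base x)) (U := U) x (gpt_default _).symm
  have hs : germ _ F p s = 0 := by
    by_contra h; exact hc.1 (hp ▸ (GrothLib.EtBasicB.germ_ne_zero_iff _ F p s).1 h)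
  have ht : germ _ F p t = 0 := by
    by_contra h; exact hc.2 (hp ▸ (GrothLib.EtBasicB.germ_ne_zero_iff _ F p t).1 h)
  exact (GrothLib.EtBasicB.germ_ne_zero_iff _ F p (s + t)).2 (hp.symm ▸ hx) (by rw [map_add, hs, ht, add_zero])

theorem isClosed_sectSupp (F : EtCoh.Ab X) (U : X.Etale) (s : EtCoh.sect F U) :
    IsClosed (sectSupp F U s) :=
  GrothLib.EtBasicB.isClosed_sectSupp F U s

theorem hasProperSupport_iff (F : EtCoh.Ab X) (U : X.Etale) (s : EtCoh.sect F U) {S : Scheme.{u}}
    (g : U.left ⟶ S) : HasProperSupport F U s g ↔ ClSub.IsProperOver g (sectSupp F U s) :=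
  ⟨fun ⟨_, hZ, hp⟩ => GrothLib.ProperOver.IsProperOver.subset g hp (isClosed_sectSupp F U s) hZ,
    fun h => ⟨_, subset_rfl, h⟩⟩

instance lft_prV (f : X ⟶ Y) [LocallyOfFiniteType f] (V : Y.Etale) :
    LocallyOfFiniteType (prV f V) :=
  MorphismProperty.pullback_fst _ _ inferInstance

instance isSeparated_prV (f : X ⟶ Y) [IsSeparated f] (V : Y.Etale) : IsSeparated (prV f V) :=
  MorphismProperty.pullback_fst _ _ inferInstance

/-- The predicate of proper support is stable under base change, hence hereditary. -/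
theorem shriekPred_iff (f : X ⟶ Y) (F : EtCoh.Ab X) (V : Y.Etale)
    (s : EtCoh.sect F ((EtCoh.bc f).obj V)) :
    ShriekPred f F V s ↔ ClSub.IsProperOver (prV f V) (sectSupp F _ s) := by
  constructor
  · intro h
    have := (hasProperSupport_iff F _ _ _).1 (h V (𝟙 V))
    rwa [CategoryTheory.Functor.map_id, op_id, CategoryTheory.Functor.map_id] at this
  · intro h V' φ
    rw [hasProperSupport_iff, sectSupp_map]
    exact GrothLib.ProperOver.isProperOver_preimage_of_isPullback (prV f V) φ.left
      ((EtCoh.bc f).map φ).left (prV f V') (EtCoh.isPullback_bc_map f φ) h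

variable (f : X ⟶ Y) [LocallyOfFiniteType f]

theorem shriekPred_zero (F : EtCoh.Ab X) (V : Y.Etale) : ShriekPred f F V 0 := by
  rw [shriekPred_iff, sectSupp_zero]
  have := GrothLib.ProperOver.isProperOver_iUnion (prV f V) (ι := Empty) (fun e => e.elim)
    (fun e => e.elim)
  rwa [Set.iUnion_of_empty] at this

theorem shriekPred_add (F : EtCoh.Ab X) (V : Y.Etale) (s t : EtCoh.sect F ((EtCoh.bc f).obj V))
    (hs : ShriekPred f F V s) (ht : ShriekPred f F V t) : ShriekPred f F V (s + t) := by
  rw [shriekPred_iff] at *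
  refine GrothLib.ProperOver.IsProperOver.subset (prV f V) ?_ (isClosed_sectSupp F _ _)
    (sectSupp_add F _ s t)
  have := GrothLib.ProperOver.isProperOver_iUnion (prV f V) (ι := Bool)
    (fun b => bif b then sectSupp F _ s else sectSupp F _ t) (by rintro (_ | _) <;> assumption)
  rwa [← Set.union_eq_iUnion] at this

theorem shriekPred_neg (F : EtCoh.Ab X) (V : Y.Etale) (s : EtCoh.sect F ((EtCoh.bc f).obj V))
    (hs : ShriekPred f F V s) : ShriekPred f F V (-s) := by
  rw [shriekPred_iff] at *
  rwa [sectSupp_neg]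

/-- The generated subgroup consists of the sections with proper support. -/
theorem mem_shriekSubgroup_iff (F : EtCoh.Ab X) (V : Y.Etale)
    (s : EtCoh.sect F ((EtCoh.bc f).obj V)) :
    s ∈ shriekSubgroup f F V ↔ ShriekPred f F V s := by
  refine ⟨fun h => ?_, fun h => AddSubgroup.subset_closure h⟩
  exact AddSubgroup.closure_induction (p := fun x _ => ShriekPred f F V x) (fun x hx => hx)
    (shriekPred_zero f F V) (fun a b _ _ ha hb => shriekPred_add f F V a b ha hb)
    (fun a _ ha => shriekPred_neg f F V a ha) h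

theorem mem_shriekSubgroup_iff' (F : EtCoh.Ab X) (V : Y.Etale)
    (s : EtCoh.sect F ((EtCoh.bc f).obj V)) :
    s ∈ shriekSubgroup f F V ↔ ClSub.IsProperOver (prV f V) (sectSupp F _ s) :=
  (mem_shriekSubgroup_iff f F V s).trans (shriekPred_iff f F V s)

omit [LocallyOfFiniteType f] in
theorem isProper_of_openCover_pullback {W V : Scheme.{u}} (p : W ⟶ V) {ι : Type u}
    (T : ι → Scheme.{u}) (h : ∀ i, T i ⟶ V) [∀ i, Etale (h i)]
    (hs : ∀ v : V, ∃ i, v ∈ Set.range (h i))
    (hp : ∀ i, IsProper (pullback.snd p (h i))) : IsProper p := by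
  let c : (∐ T) ⟶ V := Sigma.desc h
  have hc : ∀ i, Sigma.ι T i ≫ c = h i := fun i => Sigma.ι_desc h i
  have : Surjective c := ⟨fun v => by
    obtain ⟨i, t, rfl⟩ := hs v
    exact ⟨Sigma.ι T i t, by rw [← Scheme.Hom.comp_apply, hc]⟩⟩
  have : Etale c := by
    refine IsZariskiLocalAtSource.of_openCover (P := @Etale) (sigmaOpenCover T) fun i => ?_
    change Etale (Sigma.ι T i ≫ c)
    rw [hc]
    infer_instance
  have h2 : IsProper (pullback.snd p c) := by
    refine IsZariskiLocalAtTarget.of_openCover (P := @IsProper) (sigmaOpenCover T) fun i => ?_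
    have sq : IsPullback (pullback.fst (pullback.snd p c) (Sigma.ι T i) ≫ pullback.fst p c)
        (pullback.snd (pullback.snd p c) (Sigma.ι T i)) p (h i) := by
      have := (IsPullback.of_hasPullback (pullback.snd p c) (Sigma.ι T i)).paste_horiz
        (IsPullback.of_hasPullback p c)
      rwa [hc] at this
    change IsProper (pullback.snd (pullback.snd p c) (Sigma.ι T i))
    rw [← sq.isoPullback_hom_snd]
    have := hp i
    infer_instance
  exact MorphismProperty.of_isPullback_of_descendsAlong (P := @IsProper)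
    (Q := @Surjective ⊓ @Flat ⊓ @LocallyOfFinitePresentation)
    (IsPullback.of_hasPullback p c).flip ⟨⟨inferInstance, inferInstance⟩, inferInstance⟩ h2

/-- Proper support may be tested on an etale covering. -/
theorem isProperOver_of_cover (F : EtCoh.Ab X) {V : Y.Etale} (s : EtCoh.sect F ((EtCoh.bc f).obj V))
    {ι : Type u} (V' : ι → Y.Etale) (φ : ∀ i, V' i ⟶ V)
    (hs : ∀ v : V.left, ∃ i, v ∈ Set.range (φ i).left.base)
    (h : ∀ i, ClSub.IsProperOver (prV f (V' i)) (sectSupp F _ (F.obj.map ((EtCoh.bc f).map (φ i)).op s))) :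
    ClSub.IsProperOver (prV f V) (sectSupp F _ s) := by
  let Z := sectSupp F ((EtCoh.bc f).obj V) s
  have hZ : IsClosed Z := isClosed_sectSupp F _ s
  refine ⟨hZ, isProper_of_openCover_pullback _ (fun i => (V' i).left) (fun i => (φ i).left) hs
    fun i => ?_⟩
  have sq := EtCoh.isPullback_bc_map f (φ i)
  let g' := ((EtCoh.bc f).map (φ i)).left
  let r := GrothLib.ProperOver.redι Z hZ
  have sq2 : IsPullback (pullback.snd g' r) (pullback.fst g' r ≫ prV f (V' i)) (r ≫ prV f V)
      (φ i).left := (IsPullback.of_hasPullback g' r).flip.paste_vert sq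
  have h1 : IsProper (pullback.fst g' r ≫ prV f (V' i)) := by
    have hr : Set.range (pullback.fst g' r) =
        sectSupp F _ (F.obj.map ((EtCoh.bc f).map (φ i)).op s) := by
      rw [Scheme.Pullback.range_fst, GrothLib.ProperOver.range_redι, sectSupp_map]
    exact GrothLib.ProperOver.isProper_of_isProperOver (prV f (V' i)) (pullback.fst g' r)
      (by rw [hr]; exact h i)
  change IsProper (pullback.snd (r ≫ prV f V) (φ i).left)
  rw [← sq2.isoPullback_inv_snd]
  infer_instance

end GrothLib.EtShriek
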